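import Cfsg.Agent.Lib.Wielandt2p.Mult
import Cfsg.Agent.Lib.Characters.Kernel
import Cfsg.Agent.Lib.Characters.Transitive
import Cfsg.Agent.Lib.Perm.Modules
import Cfsg.Agent.Lib.PermTrans.Constituents
import Cfsg.Agent.Lib.Induced.Generalized

/-!
# Transitive groups of degree `2p`: the decomposition of the permutation character

`L` is generated by its elements of order `p`, is perfect, and the centraliser of `x` (two
`p`-cycles) is generated by `x`.  Then `L` is doubly transitive or its permutation character is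
`1 + U + ∑ θ` with `U` of degree `p` and `θ` covering the non-trivial characters of `⟨x⟩` once.
-/

set_option autoImplicit false
set_option linter.unusedSectionVars false
set_option linter.style.haveILetI false

namespace Cfsg.Agent.Lib.Wielandt2p

open ZMod (stdAddChar)
open MulAction
open scoped ComplexConjugate
open Cfsg.Agent.Lib.Characters.Basic Cfsg.Agent.Lib.Characters.Complete
open Cfsg.Agent.Lib.Characters.Linear Cfsg.Agent.Lib.Characters.Kernel
open Cfsg.Agent.Lib.Characters.Transitive Cfsg.Agent.Lib.Induced.Basic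
open Cfsg.Agent.Lib.Perm.Modules Cfsg.Agent.Lib.PermTrans.Constituents

universe u v

/-- The hypotheses on the group. -/
structure Setup (p : ℕ) (L : Type u) [Group L] (α : Type v) [Fintype α] [MulAction L α] :
    Type (max u v) where
  x : L
  two_lt : 2 < p
  card : Fintype.card α = 2 * p
  trans : IsPretransitive L α
  order : orderOf x = p
  free : ∀ k : ℕ, ¬ p ∣ k → ∀ a : α, x ^ k • a ≠ a
  cent : ∀ g : L, Commute g x → g ∈ Subgroup.zpowers x
  gen : ∀ K : Subgroup L, K.Normal → p ∣ Nat.card K → K = ⊤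
  perfect : commutator L = ⊤

/-- Two entries `±1`, the others `0`. -/
theorem two_support {ι : Type*} [Fintype ι] [DecidableEq ι] (d : ι → ℤ) (h : ∑ c, d c ^ 2 = 2) :
    ∃ a b, a ≠ b ∧ (d a = 1 ∨ d a = -1) ∧ (d b = 1 ∨ d b = -1) ∧
      ∀ c, c ≠ a → c ≠ b → d c = 0 := by
  have hsmall : ∀ c, d c = -1 ∨ d c = 0 ∨ d c = 1 := by
    intro c
    have hle : d c ^ 2 ≤ 2 := by
      rw [← h]
      exact Finset.single_le_sum (f := fun z => d z ^ 2) (fun z _ => sq_nonneg _)
        (Finset.mem_univ c)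
    have : -1 ≤ d c ∧ d c ≤ 1 := ⟨by nlinarith, by nlinarith⟩
    omega
  set T := Finset.univ.filter fun c => d c ≠ 0 with hTdef
  have hT : T.card = 2 := by
    have h' : (T.card : ℤ) = ∑ c, d c ^ 2 := by
      rw [hTdef, Finset.card_filter, Nat.cast_sum]
      refine Finset.sum_congr rfl fun c _ => ?_
      rcases hsmall c with hc | hc | hc <;> simp [hc]
    rw [h] at h'
    exact_mod_cast h'
  obtain ⟨a, b, hab, hTab⟩ := Finset.card_eq_two.mp hT
  have hmem : ∀ c, d c ≠ 0 ↔ c = a ∨ c = b := fun c => by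
    have : c ∈ T ↔ c ∈ ({a, b} : Finset ι) := by rw [hTab]
    simpa [hTdef] using this
  refine ⟨a, b, hab, ?_, ?_, fun c h1 h2 => ?_⟩
  · have := (hmem a).2 (Or.inl rfl); have := hsmall a; tauto
  · have := (hmem b).2 (Or.inr rfl); have := hsmall b; tauto
  · by_contra hc; exact ((hmem c).1 hc).elim h1 h2

/-- A sum of natural numbers equal to one. -/
theorem one_support {ι : Type*} [DecidableEq ι] (s : Finset ι) (f : ι → ℕ) (h : ∑ c ∈ s, f c = 1) :
    ∃ a ∈ s, f a = 1 ∧ ∀ c ∈ s, c ≠ a → f c = 0 := by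
  obtain ⟨a, ha, hne⟩ : ∃ a ∈ s, f a ≠ 0 := Finset.exists_ne_zero_of_sum_ne_zero (by omega)
  rw [← Finset.add_sum_erase _ _ ha] at h
  exact ⟨a, ha, by omega, fun c hc hca => by
    exact Finset.sum_eq_zero_iff.1 (by omega : ∑ c ∈ s.erase a, f c = 0) c
      (Finset.mem_erase.2 ⟨hca, hc⟩)⟩

variable {p : ℕ} [Fact p.Prime] {L : Type u} [Group L] {α : Type v} [Fintype α] [MulAction L α]

omit [Fact p.Prime] in
theorem isCharacter_permChar : Cfsg.IsCharacter L (permChar α : L → ℂ) := by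
  unfold permChar
  rw [← character_permRep]
  exact isCharacter_character _

namespace Setup

variable (S : Setup p L α)

theorem pow_p : S.x ^ p = 1 := by
  have := pow_orderOf_eq_one S.x
  rwa [S.order] at this

theorem pw_inj {a b : ZMod p} (h : pw S.x a = pw S.x b) : a = b :=
  ZMod.val_injective p (pow_injOn_Iio_orderOf (by simpa [S.order] using a.val_lt)
    (by simpa [S.order] using b.val_lt) h)

theorem pw_one : pw S.x (1 : ZMod p) = S.x := by
  rw [pw, ZMod.val_one, pow_one]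

theorem pw_pow (a b : ZMod p) : pw S.x a ^ b.val = pw S.x (a * b) := by
  simp only [pw, ← pow_mul, ZMod.val_mul]
  exact pow_eq_pow_mod _ S.pow_p

theorem not_fixed {k : ZMod p} (hk : k ≠ 0) (a : α) : pw S.x k • a ≠ a :=
  S.free k.val (fun h => hk ((ZMod.val_eq_zero k).1 (Nat.eq_zero_of_dvd_of_lt h k.val_lt))) a

/-- The exponents of the automiser of `⟨x⟩`. -/
noncomputable def R : Finset (ZMod p) :=
  open scoped Classical in Finset.univ.filter fun r => IsConj S.x (pw S.x r)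

theorem mem_R {r : ZMod p} : r ∈ S.R ↔ IsConj S.x (pw S.x r) := by simp [R]

/-- The order of the automiser. -/
noncomputable def e : ℕ := S.R.card

theorem one_mem_R : (1 : ZMod p) ∈ S.R := by rw [mem_R, pw_one]

theorem zero_notMem_R : (0 : ZMod p) ∉ S.R := fun h => by
  rw [mem_R, pw_zero] at h
  have := isConj_one_left.1 h
  have h1 := S.order
  rw [this, orderOf_one] at h1
  exact (Fact.out : p.Prime).ne_one h1.symm

theorem R_ne_zero {r : ZMod p} (h : r ∈ S.R) : r ≠ 0 := fun h0 => S.zero_notMem_R (h0 ▸ h)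

theorem isConj_pw_mul {r : ZMod p} (hr : r ∈ S.R) (k : ZMod p) :
    IsConj (pw S.x k) (pw S.x (r * k)) := by
  obtain ⟨g, hg⟩ := isConj_iff.1 (S.mem_R.1 hr)
  refine isConj_iff.2 ⟨g, ?_⟩
  rw [← S.pw_pow r k, ← hg, conj_pow]
  rfl

theorem mul_mem_R {r s : ZMod p} (hr : r ∈ S.R) (hs : s ∈ S.R) : r * s ∈ S.R :=
  S.mem_R.2 ((S.mem_R.1 hs).trans (S.isConj_pw_mul hr s))

theorem inv_mem_R {r : ZMod p} (hr : r ∈ S.R) : r⁻¹ ∈ S.R := by
  obtain ⟨g, hg⟩ := isConj_iff.1 ((S.isConj_pw_mul hr r⁻¹).symm)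
  rw [mul_inv_cancel₀ (S.R_ne_zero hr), pw_one] at hg
  exact S.mem_R.2 (isConj_iff.2 ⟨g, hg⟩)

theorem isConj_pw_iff {k : ZMod p} (hk : k ≠ 0) (l : ZMod p) :
    IsConj (pw S.x k) (pw S.x l) ↔ ∃ r ∈ S.R, r * k = l := by
  constructor
  · intro h
    obtain ⟨g, hg⟩ := isConj_iff.1 h
    refine ⟨l * k⁻¹, S.mem_R.2 (isConj_iff.2 ⟨g, ?_⟩), by field_simp⟩
    rw [← S.pw_pow l k⁻¹, ← hg, conj_pow, S.pw_pow, mul_inv_cancel₀ hk, pw_one]
  · rintro ⟨r, hr, rfl⟩
    exact S.isConj_pw_mul hr k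

theorem card_centralizer {k : ZMod p} (hk : k ≠ 0) :
    Nat.card (Subgroup.centralizer ({pw S.x k} : Set L)) = p := by
  have : Subgroup.centralizer ({pw S.x k} : Set L) = Subgroup.zpowers S.x := by
    ext g
    rw [Subgroup.mem_centralizer_singleton_iff]
    constructor
    · intro h
      refine S.cent g ?_
      have h2 : Commute g (pw S.x k ^ (k⁻¹).val) := Commute.pow_right h _
      rwa [S.pw_pow, mul_inv_cancel₀ hk, pw_one] at h2
    · rintro ⟨n, rfl⟩
      exact ((Commute.refl S.x).zpow_left n).pow_right _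
  rw [this, Nat.card_zpowers, S.order]

variable [Fintype L]

theorem orth (i j : ZMod p) :
    ∑ᶠ χ : Cfsg.IrrCharacter L, mult S.x (χ : L → ℂ) i * conj (mult S.x (χ : L → ℂ) j) =
      ((Nat.card L : ℂ) - p * S.e) / p ^ 2 + (S.R.filter fun r => r * j = i).card := by
  classical
  have := Fintype.ofFinite (Cfsg.IrrCharacter L)
  rw [finsum_eq_sum_of_fintype]
  have hp0 : (p : ℂ) ≠ 0 := Nat.cast_ne_zero.2 (NeZero.ne p)
  have hinner : ∀ k : ZMod p, ∑ l : ZMod p, (∑ χ : Cfsg.IrrCharacter L,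
      (χ : L → ℂ) (pw S.x k) * conj ((χ : L → ℂ) (pw S.x l))) * stdAddChar (j * l) =
      p * ∑ r ∈ S.R, stdAddChar (j * (r * k)) +
        (if k = 0 then (Nat.card L : ℂ) - p * S.e else 0) := by
    intro k
    simp only [sum_irr_mul_conj]
    split_ifs with hk
    · subst hk
      rw [Finset.sum_eq_single 0 (fun l _ hl => by
          rw [if_neg, zero_mul]
          rw [pw_zero, isConj_one_right]
          exact fun h => hl (S.pw_inj (h.trans (pw_zero _).symm)))
        (fun h => absurd (Finset.mem_univ _) h)]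
      rw [if_pos (IsConj.refl _), pw_zero, mul_zero, AddChar.map_zero_eq_one, mul_one]
      have htop : Subgroup.centralizer ({1} : Set L) = ⊤ := by
        ext g; simp [Subgroup.mem_centralizer_singleton_iff]
      rw [htop, Subgroup.card_top]
      simp [e]
    · rw [S.card_centralizer hk, add_zero, Finset.mul_sum]
      refine (Finset.sum_of_injOn (fun r => r * k) (fun a _ b _ h => mul_right_cancel₀ hk h)
        (fun _ _ => Finset.mem_coe.2 (Finset.mem_univ _)) (fun l _ hl => ?_) (fun r hr => ?_)).symm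
      · rw [if_neg, zero_mul]
        intro h
        obtain ⟨r, hr, hrl⟩ := (S.isConj_pw_iff hk l).1 h
        exact hl ⟨r, hr, hrl⟩
      · rw [if_pos (S.isConj_pw_mul hr k)]
  simp only [mult, map_mul, map_sum, map_inv₀, map_natCast, conj_stdAddChar, neg_neg]
  calc ∑ χ : Cfsg.IrrCharacter L,
      (p : ℂ)⁻¹ * (∑ k, (χ : L → ℂ) (pw S.x k) * stdAddChar (-(i * k))) *
        ((p : ℂ)⁻¹ * ∑ l, conj ((χ : L → ℂ) (pw S.x l)) * stdAddChar (j * l))
      = (p : ℂ)⁻¹ ^ 2 * ∑ k, stdAddChar (-(i * k)) * ∑ l : ZMod p, (∑ χ : Cfsg.IrrCharacter L,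
        (χ : L → ℂ) (pw S.x k) * conj ((χ : L → ℂ) (pw S.x l))) * stdAddChar (j * l) := by
        simp only [Finset.mul_sum, Finset.sum_mul]
        rw [Finset.sum_comm]
        refine Eq.trans (Finset.sum_congr rfl fun k _ => Finset.sum_comm) ?_
        rw [Finset.sum_comm]
        refine Finset.sum_congr rfl fun k _ => Finset.sum_congr rfl fun l _ =>
          Finset.sum_congr rfl fun χ _ => ?_
        ring
    _ = _ := by
        simp only [hinner, mul_add, Finset.sum_add_distrib, mul_ite, mul_zero, Finset.sum_ite_eq',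
          Finset.mem_univ, if_true, neg_zero, AddChar.map_zero_eq_one, one_mul]
        have h2 : ∑ k : ZMod p, stdAddChar (-(i * k)) * ((p : ℂ) * ∑ r ∈ S.R,
            stdAddChar (j * (r * k))) = (p : ℂ) ^ 2 * (S.R.filter fun r => r * j = i).card := by
          simp only [Finset.mul_sum]
          rw [Finset.sum_comm, Finset.natCast_card_filter, Finset.mul_sum]
          refine Finset.sum_congr rfl fun r _ => ?_
          have h3 : ∀ k : ZMod p, stdAddChar (-(i * k)) * ((p : ℂ) * stdAddChar (j * (r * k))) =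
              (p : ℂ) * stdAddChar (k * (r * j - i)) := fun k => by
            rw [mul_left_comm, ← AddChar.map_add_eq_mul]; congr 2; ring
          simp only [h3, ← Finset.mul_sum, sum_stdAddChar_mul, sub_eq_zero]
          split_ifs <;> ring
        rw [h2]
        generalize (S.R.filter fun r => r * j = i).card = C
        field_simp
        ring

/-- Multiplicity of the `i`-th character of `⟨x⟩` in `χ`. -/
noncomputable def mu (χ : Cfsg.IrrCharacter L) (i : ZMod p) : ℕ :=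
  (exists_mult_nat S.pow_p (isCharacter_irr χ) i).choose

theorem mu_spec (χ : Cfsg.IrrCharacter L) (i : ZMod p) :
    mult S.x (χ : L → ℂ) i = S.mu χ i :=
  (exists_mult_nat S.pow_p (isCharacter_irr χ) i).choose_spec

theorem mu_R {r : ZMod p} (hr : r ∈ S.R) (χ : Cfsg.IrrCharacter L) (i : ZMod p) :
    S.mu χ (r * i) = S.mu χ i := by
  have h := mult_mul_unit S.x (χ : L → ℂ) (S.R_ne_zero hr)
    (fun k => (classFunction_apply_of_isConj (isClassFunction_irr χ) (S.isConj_pw_mul hr k)).symm) i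
  rw [mu_spec, mu_spec] at h
  exact_mod_cast h

/-- The number of automorphisms carrying `j` to `i`. -/
noncomputable def cnt (i j : ZMod p) : ℕ := (S.R.filter fun r => r * j = i).card

variable [Fintype (Cfsg.IrrCharacter L)]

theorem orth_nat (i j : ZMod p) :
    ∑ χ : Cfsg.IrrCharacter L, ((S.mu χ i : ℂ) * S.mu χ j) =
      ((Nat.card L : ℂ) - p * S.e) / p ^ 2 + S.cnt i j := by
  rw [cnt, ← S.orth i j, finsum_eq_sum_of_fintype]
  exact Finset.sum_congr rfl fun χ _ => by rw [mu_spec, mu_spec, map_natCast]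

theorem orth_sub (i j i' j' : ZMod p) :
    ∑ χ : Cfsg.IrrCharacter L,
      ((S.mu χ i : ℤ) - S.mu χ j) * ((S.mu χ i' : ℤ) - S.mu χ j') =
      (S.cnt i i' : ℤ) - S.cnt i j' - (S.cnt j i' - S.cnt j j') := by
  apply Int.cast_injective (α := ℂ)
  push_cast
  simp only [sub_mul, mul_sub, Finset.sum_sub_distrib, orth_nat]
  ring

/-- `i` and `j` lie in one orbit of the automiser. -/
def Rel (i j : ZMod p) : Prop := ∃ r ∈ S.R, r * j = i

theorem cnt_self {i : ZMod p} (hi : i ≠ 0) : S.cnt i i = 1 := by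
  rw [cnt, Finset.card_eq_one]
  refine ⟨1, Finset.ext fun r => ?_⟩
  simp only [Finset.mem_filter, Finset.mem_singleton]
  exact ⟨fun h => mul_right_cancel₀ hi (h.2.trans (one_mul i).symm), fun h => by
    rw [h]; exact ⟨S.one_mem_R, one_mul i⟩⟩

theorem cnt_eq_zero {i j : ZMod p} (h : ¬ S.Rel i j) : S.cnt i j = 0 := by
  rw [cnt, Finset.card_eq_zero, Finset.filter_eq_empty_iff]
  exact fun r hr he => h ⟨r, hr, he⟩

omit [Fintype (Cfsg.IrrCharacter L)] [Fintype L] in
theorem Rel.symm {i j : ZMod p} (h : S.Rel i j) : S.Rel j i := by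
  obtain ⟨r, hr, rfl⟩ := h
  exact ⟨r⁻¹, S.inv_mem_R hr, by rw [← mul_assoc, inv_mul_cancel₀ (S.R_ne_zero hr), one_mul]⟩

theorem norm_two {i j : ZMod p} (hi : i ≠ 0) (hj : j ≠ 0) (h : ¬ S.Rel i j) :
    ∑ χ : Cfsg.IrrCharacter L, ((S.mu χ i : ℤ) - S.mu χ j) ^ 2 = 2 := by
  simp only [sq]
  rw [S.orth_sub, S.cnt_self hi, S.cnt_self hj, S.cnt_eq_zero h,
    S.cnt_eq_zero fun h' => h (Rel.symm S h')]
  norm_num

theorem sub_mul_zero {i j : ZMod p} (hi : i ≠ 0) (hj : j ≠ 0) :
    ∑ χ : Cfsg.IrrCharacter L, ((S.mu χ i : ℤ) - S.mu χ j) * S.mu χ 0 = 0 := by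
  have h0 : ∀ k : ZMod p, k ≠ 0 → S.cnt k 0 = 0 := fun k hk =>
    S.cnt_eq_zero fun ⟨r, _, h⟩ => hk (by rw [← h, mul_zero])
  apply Int.cast_injective (α := ℂ)
  push_cast
  simp only [sub_mul, Finset.sum_sub_distrib, orth_nat, h0 i hi, h0 j hj, sub_self]

/-! ### The kernel and linear characters -/

theorem card_L_dvd : p ∣ Nat.card (Subgroup.zpowers S.x) := by
  rw [Nat.card_zpowers, S.order]

theorem eq_one_of_mu {χ : Cfsg.IrrCharacter L} (h : ∀ i : ZMod p, i ≠ 0 → S.mu χ i = 0) :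
    χ = oneChar L := by
  classical
  have hval : ∀ j : ZMod p, (χ : L → ℂ) (pw S.x j) = S.mu χ 0 := fun j => by
    rw [← sum_mult_mul S.x (χ : L → ℂ) j, Finset.sum_eq_single 0
      (fun i _ hi => by rw [mu_spec, h i hi, Nat.cast_zero, zero_mul])
      (fun h => absurd (Finset.mem_univ _) h), mu_spec, zero_mul, AddChar.map_zero_eq_one, mul_one]
  have hx : S.x ∈ charKer (isCharacter_irr χ) := by
    rw [mem_charKer]
    have h1 := hval 1
    have h0 := hval 0
    rw [pw_one] at h1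
    rw [pw_zero] at h0
    rw [h1, h0]
  have htop : charKer (isCharacter_irr χ) = ⊤ :=
    S.gen _ (charKer_normal _) (S.card_L_dvd.trans
      (Subgroup.card_dvd_of_le (Subgroup.zpowers_le.2 hx)))
  obtain ⟨d, hd0, hd⟩ := exists_degree_pos χ
  have hconst : ∀ g, (χ : L → ℂ) g = d := fun g => by
    rw [← hd]
    exact (mem_charKer _ g).1 (htop ▸ Subgroup.mem_top g)
  have h1 := classInner_self_irr χ
  rw [Cfsg.classInner, Finset.sum_congr rfl fun g _ => by rw [hconst g, map_natCast],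
    Finset.sum_const, Finset.card_univ, nsmul_eq_mul, ← Nat.card_eq_fintype_card, ← mul_assoc,
    inv_mul_cancel₀ natCard_ne_zero, one_mul, ← Nat.cast_mul, Nat.cast_eq_one] at h1
  refine Subtype.ext (funext fun g => ?_)
  rw [hconst, oneChar_apply, Nat.eq_one_of_mul_eq_one_right h1, Nat.cast_one]

include S in
theorem eq_one_of_linear {χ : Cfsg.IrrCharacter L} (h : (χ : L → ℂ) 1 = 1) : χ = oneChar L := by
  refine Subtype.ext (funext fun g => ?_)
  have hg : g ∈ (degOneHom (isCharacter_irr χ) h).ker :=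
    (Abelianization.commutator_subset_ker _) (S.perfect ▸ Subgroup.mem_top g)
  have := congrArg Units.val (MonoidHom.mem_ker.1 hg)
  rwa [degOneHom_apply] at this

theorem degree_eq_sum (χ : Cfsg.IrrCharacter L) :
    (χ : L → ℂ) 1 = ((∑ i : ZMod p, S.mu χ i : ℕ) : ℂ) := by
  rw [← sum_mult (p := p) S.x (χ : L → ℂ), Nat.cast_sum]
  exact Finset.sum_congr rfl fun i _ => S.mu_spec χ i

theorem mu_one (i : ZMod p) : S.mu (oneChar L) i = if i = 0 then 1 else 0 := by
  classical
  have h : (S.mu (oneChar L) i : ℂ) = if i = 0 then 1 else 0 := by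
    rw [← mu_spec, mult]
    simp only [oneChar_apply, one_mul]
    have e : ∀ k : ZMod p, stdAddChar (-(i * k)) = stdAddChar (k * -i) := fun k => by
      congr 1; ring
    simp only [e, sum_stdAddChar_mul, neg_eq_zero]
    split_ifs <;> simp [NeZero.ne p]
  split_ifs at h ⊢ <;> exact_mod_cast h

/-! ### The permutation character -/

/-- Multiplicity in the permutation character. -/
noncomputable def c (_S : Setup p L α) (χ : Cfsg.IrrCharacter L) : ℕ :=
  (exists_classInner_nat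
    (isCharacter_permChar (L := L) (α := α)) (isCharacter_irr χ)).choose

theorem c_spec (χ : Cfsg.IrrCharacter L) :
    Cfsg.classInner (permChar α : L → ℂ) (χ : L → ℂ) = S.c χ :=
  (exists_classInner_nat
    (isCharacter_permChar (L := L) (α := α)) (isCharacter_irr χ)).choose_spec

theorem permChar_eq : (permChar α : L → ℂ) =
    ∑ χ : Cfsg.IrrCharacter L, (S.c χ : ℂ) • (χ : L → ℂ) := by
  rw [classFunction_eq_sum (isClassFunction_of_isCharacter isCharacter_permChar)]
  exact Finset.sum_congr rfl fun χ _ => by rw [S.c_spec]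

theorem permChar_pw {k : ZMod p} (hk : k ≠ 0) : permChar α (pw S.x k) = (0 : ℂ) := by
  have : IsEmpty (fixedBy α (pw S.x k)) := ⟨fun a => S.not_fixed hk a.1 a.2⟩
  simp [permChar]

theorem c_mu (i : ZMod p) : ∑ χ : Cfsg.IrrCharacter L, S.c χ * S.mu χ i = 2 := by
  classical
  have h1 : mult S.x (permChar α : L → ℂ) i = 2 := by
    rw [mult, Finset.sum_eq_single 0 (fun k _ hk => by rw [S.permChar_pw hk, zero_mul])
      (fun h => absurd (Finset.mem_univ _) h), pw_zero, mul_zero, neg_zero,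
      AddChar.map_zero_eq_one, mul_one]
    have : fixedBy α (1 : L) = Set.univ := by ext a; simp
    rw [permChar, this, Nat.card_coe_set_eq, Set.ncard_univ, Nat.card_eq_fintype_card, S.card]
    push_cast
    field_simp [NeZero.ne p]
  rw [S.permChar_eq, mult_sum] at h1
  have h2 : ((∑ χ : Cfsg.IrrCharacter L, S.c χ * S.mu χ i : ℕ) : ℂ) = ((2 : ℕ) : ℂ) := by
    push_cast
    rw [← h1]
    exact Finset.sum_congr rfl fun χ _ => by rw [mult_smul, mu_spec]
  exact_mod_cast h2

theorem nonempty (S : Setup p L α) : Nonempty α := Fintype.card_pos_iff.1 (by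
  rw [S.card]; have := S.two_lt; omega)

theorem c_one : S.c (oneChar L) = 1 := by
  haveI := S.trans
  haveI := S.nonempty
  have h : (S.c (oneChar L) : ℂ) = 1 := by
    rw [← c_spec]; exact classInner_permChar_one α
  exact_mod_cast h

theorem rank_eq : Nat.card (orbitRel.Quotient L (α × α)) =
    ∑ χ : Cfsg.IrrCharacter L, S.c χ ^ 2 := by
  have h := classInner_permChar (G := L) α
  rw [Cfsg.Agent.Lib.Induced.Generalized.classInner_eq_sum] at h
  swap
  · exact Cfsg.Agent.Lib.Induced.Generalized.of_isCharacter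
      isCharacter_permChar
  simp only [S.c_spec, map_natCast] at h
  have h' : ((∑ χ : Cfsg.IrrCharacter L, S.c χ ^ 2 : ℕ) : ℂ) =
      (Nat.card (orbitRel.Quotient L (α × α)) : ℂ) := by
    rw [← h]; push_cast; exact Finset.sum_congr rfl fun χ _ => sq _
  exact_mod_cast h'.symm

open scoped Classical in
/-- The constituents other than `1` and `U`. -/
noncomputable def rest (U : Cfsg.IrrCharacter L) : Finset (Cfsg.IrrCharacter L) :=
  Finset.univ.filter fun χ => χ ≠ oneChar L ∧ χ ≠ U ∧ S.c χ ≠ 0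

theorem mem_rest {U χ : Cfsg.IrrCharacter L} :
    χ ∈ S.rest U ↔ χ ≠ oneChar L ∧ χ ≠ U ∧ S.c χ ≠ 0 := by simp [rest]

open scoped Classical in
theorem sum_split {U : Cfsg.IrrCharacter L} (hU : U ≠ oneChar L) (f : Cfsg.IrrCharacter L → ℕ)
    (hf : ∀ χ, S.c χ = 0 → f χ = 0) :
    ∑ χ, f χ = f (oneChar L) + f U + ∑ χ ∈ S.rest U, f χ := by
  rw [← Finset.add_sum_erase _ _ (Finset.mem_univ (oneChar L)),
    ← Finset.add_sum_erase _ _ (Finset.mem_erase.2 ⟨hU, Finset.mem_univ U⟩), ← add_assoc]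
  congr 1
  refine (Finset.sum_subset (fun χ hχ => ?_) fun χ hχ hn => ?_).symm
  · rw [mem_rest] at hχ
    exact Finset.mem_erase.2 ⟨hχ.2.1, Finset.mem_erase.2 ⟨hχ.1, Finset.mem_univ _⟩⟩
  · simp only [Finset.mem_erase, Finset.mem_univ, and_true] at hχ
    rw [mem_rest] at hn
    exact hf χ (by tauto)

/-- The structure of the permutation character when `L` is not doubly transitive. -/
structure Split (U : Cfsg.IrrCharacter L) : Prop where
  ne_one : U ≠ oneChar L
  c_U : S.c U = 1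
  mu_U : ∀ i, S.mu U i = 1
  mu_zero : ∀ χ ∈ S.rest U, S.mu χ 0 = 0
  cover : ∀ i : ZMod p, i ≠ 0 → ∑ χ ∈ S.rest U, S.c χ * S.mu χ i = 1

theorem dichotomy : Nat.card (orbitRel.Quotient L (α × α)) = 2 ∨ ∃ U, S.Split U := by
  classical
  have h0 := S.c_mu 0
  rw [← Finset.add_sum_erase _ _ (Finset.mem_univ (oneChar L)), c_one, mu_one, if_pos rfl] at h0
  obtain ⟨U, hUmem, hU1, hUz⟩ := one_support (Finset.univ.erase (oneChar L))
    (fun χ => S.c χ * S.mu χ 0) (by omega)
  have hU : U ≠ oneChar L := (Finset.mem_erase.1 hUmem).1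
  obtain ⟨hcU, hU0⟩ : S.c U = 1 ∧ S.mu U 0 = 1 :=
    ⟨Nat.eq_one_of_mul_eq_one_right hU1, Nat.eq_one_of_mul_eq_one_left hU1⟩
  have hz : ∀ χ, χ ≠ oneChar L → χ ≠ U → S.c χ ≠ 0 → S.mu χ 0 = 0 := fun χ h1 h2 h3 =>
    (mul_eq_zero.1 (hUz χ (Finset.mem_erase.2 ⟨h1, Finset.mem_univ _⟩) h2)).resolve_left h3
  -- `U` is constant off `0`
  have hconst : ∀ i j : ZMod p, i ≠ 0 → j ≠ 0 → S.mu U i = S.mu U j := by
    intro i j hi hj
    by_cases hij : S.Rel i j
    · obtain ⟨r, hr, rfl⟩ := hij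
      exact S.mu_R hr U j
    obtain ⟨a, b, hab, ha, hb, hd⟩ := two_support _ (S.norm_two hi hj hij)
    set d : Cfsg.IrrCharacter L → ℤ := fun χ => (S.mu χ i : ℤ) - S.mu χ j with hddef
    by_contra hne
    have hdU : d U ≠ 0 := sub_ne_zero.2 (by exact_mod_cast hne)
    obtain ⟨b', hb'U, hb', hd'⟩ : ∃ b', b' ≠ U ∧ (d b' = 1 ∨ d b' = -1) ∧
        ∀ χ, χ ≠ U → χ ≠ b' → d χ = 0 := by
      by_cases hUa : U = a
      · exact ⟨b, hUa ▸ hab.symm, hb, fun χ h1 h2 => hd χ (hUa ▸ h1) h2⟩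
      · have hUb : U = b := by by_contra hUb; exact hdU (hd U hUa hUb)
        exact ⟨a, hUb ▸ hab, ha, fun χ h1 h2 => hd χ h2 (hUb ▸ h1)⟩
    have hsum : ∀ w : Cfsg.IrrCharacter L → ℤ, ∑ χ, d χ * w χ = d U * w U + d b' * w b' := fun w =>
      Fintype.sum_eq_add U b' (Ne.symm hb'U) fun χ hχ => by rw [hd' χ hχ.1 hχ.2, zero_mul]
    have h1 : ∑ χ, d χ * (S.c χ : ℤ) = 0 := by
      have e1 : ((∑ χ, S.c χ * S.mu χ i : ℕ) : ℤ) = ((∑ χ, S.c χ * S.mu χ j : ℕ) : ℤ) := by
        rw [S.c_mu, S.c_mu]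
      push_cast at e1
      rw [← sub_eq_zero, ← Finset.sum_sub_distrib] at e1
      rw [← e1]
      exact Finset.sum_congr rfl fun χ _ => by simp only [hddef]; ring
    rw [hsum, hcU, Nat.cast_one, mul_one] at h1
    have h2 : ∑ χ, d χ * (S.mu χ 0 : ℤ) = 0 := S.sub_mul_zero hi hj
    rw [hsum, hU0, Nat.cast_one, mul_one] at h2
    have hcb : S.c b' ≠ 0 := fun h => hdU (by simpa [h] using h1)
    have hb1 : b' ≠ oneChar L := fun h => by
      subst h
      simp only [hddef, mu_one, if_neg hi, if_neg hj] at hb'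
      simp at hb'
    rw [hz b' hb1 hb'U hcb, Nat.cast_zero, mul_zero, add_zero] at h2
    exact hdU h2
  have h1p : (1 : ZMod p) ≠ 0 := one_ne_zero
  have hcov : ∀ i : ZMod p, i ≠ 0 →
      S.mu U 1 + ∑ χ ∈ S.rest U, S.c χ * S.mu χ i = 2 := by
    intro i hi
    have h := S.c_mu i
    rwa [S.sum_split hU _ (fun χ hχ => by rw [hχ, zero_mul]), c_one, mu_one, if_neg hi, hcU,
      hconst i 1 hi h1p, mul_zero, zero_add, one_mul] at h
  have hz' : ∀ χ ∈ S.rest U, S.mu χ 0 = 0 := fun χ hχ =>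
    hz χ (S.mem_rest.1 hχ).1 (S.mem_rest.1 hχ).2.1 (S.mem_rest.1 hχ).2.2
  have hn : S.mu U 1 = 1 ∨ S.mu U 1 = 2 := by
    have := hcov 1 h1p
    rcases Nat.eq_zero_or_pos (S.mu U 1) with h | h
    · exact absurd (S.eq_one_of_mu fun i hi => (hconst i 1 hi h1p).trans h) hU
    · omega
  rcases hn with hn | hn
  · refine Or.inr ⟨U, hU, hcU, fun i => ?_, hz', fun i hi => by have := hcov i hi; omega⟩
    rcases eq_or_ne i 0 with rfl | hi
    · exact hU0
    · rw [hconst i 1 hi h1p, hn]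
  · left
    have hempty : S.rest U = ∅ := Finset.eq_empty_of_forall_notMem fun χ hχ => by
      obtain ⟨d, hd0, hd⟩ := exists_degree_pos χ
      rw [S.degree_eq_sum, Nat.cast_inj] at hd
      have : ∀ i : ZMod p, S.mu χ i = 0 := by
        intro i
        rcases eq_or_ne i 0 with rfl | hi
        · exact hz' χ hχ
        · have hs := hcov i hi
          have : ∑ χ ∈ S.rest U, S.c χ * S.mu χ i = 0 := by omega
          exact (mul_eq_zero.1 (Finset.sum_eq_zero_iff.1 this χ hχ)).resolve_left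
            (S.mem_rest.1 hχ).2.2
      simp [this] at hd
      omega
    rw [S.rank_eq, S.sum_split hU _ (fun χ hχ => by rw [hχ]; norm_num), c_one, hcU, hempty]
    rfl

namespace Split

variable {S} {U : Cfsg.IrrCharacter L} (H : S.Split U)
include H

theorem deg_U : (U : L → ℂ) 1 = p := by
  rw [S.degree_eq_sum]
  simp [H.mu_U, ZMod.card]

theorem exists_ne_zero {χ : Cfsg.IrrCharacter L} (hχ : χ ∈ S.rest U) :
    ∃ i : ZMod p, i ≠ 0 ∧ S.mu χ i ≠ 0 := by
  by_contra h
  push Not at h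
  exact (S.mem_rest.1 hχ).1 (S.eq_one_of_mu h)

theorem mul_le_one {χ : Cfsg.IrrCharacter L} (hχ : χ ∈ S.rest U) {i : ZMod p} (hi : i ≠ 0) :
    S.c χ * S.mu χ i ≤ 1 := by
  rw [← H.cover i hi]
  exact Finset.single_le_sum (f := fun z => S.c z * S.mu z i) (fun z _ => Nat.zero_le _) hχ

theorem c_rest {χ : Cfsg.IrrCharacter L} (hχ : χ ∈ S.rest U) : S.c χ = 1 := by
  obtain ⟨i, hi, hne⟩ := H.exists_ne_zero hχ
  have := H.mul_le_one hχ hi
  have h1 := Nat.pos_of_ne_zero (S.mem_rest.1 hχ).2.2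
  have h2 := Nat.pos_of_ne_zero hne
  nlinarith

theorem mu_le_one {χ : Cfsg.IrrCharacter L} (hχ : χ ∈ S.rest U) (i : ZMod p) : S.mu χ i ≤ 1 := by
  rcases eq_or_ne i 0 with rfl | hi
  · rw [H.mu_zero χ hχ]; exact zero_le_one
  · simpa [H.c_rest hχ] using H.mul_le_one hχ hi

theorem cover' {i : ZMod p} (hi : i ≠ 0) :
    ∃ θ ∈ S.rest U, S.mu θ i = 1 ∧ ∀ χ ∈ S.rest U, χ ≠ θ → S.mu χ i = 0 := by
  classical
  have h := H.cover i hi
  rw [Finset.sum_congr rfl fun χ hχ => by rw [H.c_rest hχ, one_mul]] at h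
  exact one_support _ _ h

theorem unique {χ χ' : Cfsg.IrrCharacter L} (hχ : χ ∈ S.rest U) (hχ' : χ' ∈ S.rest U)
    {i : ZMod p} (hi : i ≠ 0) (h : S.mu χ i ≠ 0) (h' : S.mu χ' i ≠ 0) : χ = χ' := by
  obtain ⟨θ, -, -, hθ⟩ := H.cover' hi
  have h1 : χ = θ := by by_contra hne; exact h (hθ χ hχ hne)
  have h2 : χ' = θ := by by_contra hne; exact h' (hθ χ' hχ' hne)
  rw [h1, h2]

theorem deg_le {χ : Cfsg.IrrCharacter L} (hχ : χ ∈ S.rest U) :
    ∃ d : ℕ, (χ : L → ℂ) 1 = d ∧ d ≤ p - 1 := by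
  classical
  refine ⟨_, S.degree_eq_sum χ, ?_⟩
  rw [← Finset.add_sum_erase _ _ (Finset.mem_univ (0 : ZMod p)), H.mu_zero χ hχ, zero_add]
  refine (Finset.sum_le_card_nsmul _ _ 1 fun i _ => H.mu_le_one hχ i).trans ?_
  simp [Finset.card_erase_of_mem, ZMod.card]

theorem rank : Nat.card (orbitRel.Quotient L (α × α)) = 2 + (S.rest U).card := by
  rw [S.rank_eq, S.sum_split H.ne_one _ (fun χ hχ => by rw [hχ]; norm_num), S.c_one, H.c_U,
    Finset.card_eq_sum_ones]
  refine congrArg _ (Finset.sum_congr rfl fun χ hχ => ?_)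
  rw [H.c_rest hχ]; norm_num

end Split

end Setup

end Cfsg.Agent.Lib.Wielandt2p
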