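import Cfsg.Agent.Lib.Wielandt2p.Decomp

/-!
# Transitive groups of degree `2p`: at most two exceptional constituents

If there are at least two constituents `θ` then each has degree `e` (the order of the automiser of
`⟨x⟩`), there are exactly two of them, `p = 2e + 1` and `e` is odd.  The proof compares the
decomposition of `θ * conj θ` with the restrictions to `⟨x⟩` and to its normaliser.
-/

set_option autoImplicit false
set_option linter.unusedSectionVars false
set_option linter.style.haveILetI false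

namespace Cfsg.Agent.Lib.Wielandt2p

open ZMod (stdAddChar)
open MulAction
open scoped ComplexConjugate
open Cfsg.Agent.Lib.Characters.Basic Cfsg.Agent.Lib.Characters.Complete
open Cfsg.Agent.Lib.Characters.Linear Cfsg.Agent.Lib.Induced.Basic

universe u v

variable {p : ℕ} [Fact p.Prime] {L : Type u} [Group L] {α : Type v} [Fintype α] [MulAction L α]

namespace Setup

variable (S : Setup p L α)

/-- The normaliser of `⟨x⟩`. -/
def N : Subgroup L where
  carrier := {g | ∃ r ∈ S.R, g * S.x * g⁻¹ = pw S.x r}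
  one_mem' := ⟨1, S.one_mem_R, by simp [pw_one]⟩
  mul_mem' := by
    rintro g h ⟨r, hr, hg⟩ ⟨s, hs, hh⟩
    refine ⟨r * s, S.mul_mem_R hr hs, ?_⟩
    calc g * h * S.x * (g * h)⁻¹ = g * (h * S.x * h⁻¹) * g⁻¹ := by simp [mul_assoc]
      _ = g * pw S.x s * g⁻¹ := by rw [hh]
      _ = (g * S.x * g⁻¹) ^ s.val := by rw [conj_pow]; rfl
      _ = pw S.x (r * s) := by rw [hg, S.pw_pow]
  inv_mem' := by
    rintro g ⟨r, hr, hg⟩
    refine ⟨r⁻¹, S.inv_mem_R hr, ?_⟩
    have h : g * pw S.x r⁻¹ * g⁻¹ = S.x := by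
      have : g * pw S.x r⁻¹ * g⁻¹ = (g * S.x * g⁻¹) ^ (r⁻¹).val := by rw [conj_pow]; rfl
      rw [this, hg, S.pw_pow, mul_inv_cancel₀ (S.R_ne_zero hr), pw_one]
    conv_lhs => arg 1; arg 2; rw [← h]
    simp [mul_assoc]

theorem mem_N {g : L} : g ∈ S.N ↔ ∃ r ∈ S.R, g * S.x * g⁻¹ = pw S.x r := Iff.rfl

/-- The exponent by which an element of the normaliser acts. -/
noncomputable def rOf (g : S.N) : ZMod p := (S.mem_N.1 g.2).choose

theorem rOf_spec (g : S.N) : rOf S g ∈ S.R ∧ (g : L) * S.x * (g : L)⁻¹ = pw S.x (rOf S g) :=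
  (S.mem_N.1 g.2).choose_spec

theorem rOf_eq (g : S.N) {r : ZMod p} (h : (g : L) * S.x * (g : L)⁻¹ = pw S.x r) : S.rOf g = r :=
  S.pw_inj ((S.rOf_spec g).2.symm.trans h)

/-- The action of the normaliser on `⟨x⟩`. -/
noncomputable def rmap : S.N →* (ZMod p)ˣ where
  toFun g := Units.mk0 (S.rOf g) (S.R_ne_zero (S.rOf_spec g).1)
  map_one' := Units.ext (S.rOf_eq 1 (by simp [pw_one]))
  map_mul' g h := Units.ext <| S.rOf_eq _ <| by
    show ((g : L) * h) * S.x * ((g : L) * h)⁻¹ = pw S.x (S.rOf g * S.rOf h)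
    rw [← S.pw_pow, ← (S.rOf_spec g).2, conj_pow]
    have := (S.rOf_spec h).2
    rw [show S.x ^ (S.rOf h).val = pw S.x (S.rOf h) from rfl, ← this]
    simp [mul_assoc]

theorem x_mem_N : S.x ∈ S.N := ⟨1, S.one_mem_R, by simp [pw_one]⟩

/-- `x` in the normaliser. -/
def xN : S.N := ⟨S.x, S.x_mem_N⟩

theorem coe_pw (k : ZMod p) : ((pw S.xN k : S.N) : L) = pw S.x k := rfl

theorem rmap_eq_one {g : S.N} : S.rmap g = 1 ↔ ∃ k : ZMod p, pw S.xN k = g := by
  constructor
  · intro h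
    have h1 : S.rOf g = 1 := congrArg Units.val h
    have hc : Commute (g : L) S.x := by
      have := (S.rOf_spec g).2
      rw [h1, pw_one] at this
      exact mul_inv_eq_iff_eq_mul.1 this
    obtain ⟨n, hn⟩ := Subgroup.mem_zpowers_iff.1 (S.cent _ hc)
    refine ⟨(n : ZMod p), Subtype.ext ?_⟩
    rw [coe_pw, ← hn, pw, ← zpow_natCast, ZMod.val_intCast]
    conv_rhs => rw [← zpow_mod_orderOf, S.order]
  · rintro ⟨k, rfl⟩
    refine Units.ext (S.rOf_eq _ ?_)
    rw [coe_pw, Units.val_one, pw_one]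
    have : Commute (pw S.x k) S.x := (Commute.refl S.x).pow_left _
    rw [this.eq, mul_inv_cancel_right]

theorem card_N : Nat.card S.N = p * S.e := by
  classical
  have h1 : Nat.card S.rmap.ker = p := by
    refine Eq.trans ?_ (Nat.card_zmod p)
    refine (Nat.card_congr (Equiv.ofBijective
      (fun k : ZMod p => (⟨pw S.xN k, MonoidHom.mem_ker.2 (S.rmap_eq_one.2 ⟨k, rfl⟩)⟩ :
        S.rmap.ker)) ⟨fun a b h => S.pw_inj ?_, fun g => ?_⟩)).symm
    · exact congrArg (fun g : S.rmap.ker => ((g : S.N) : L)) h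
    · obtain ⟨k, hk⟩ := S.rmap_eq_one.1 (MonoidHom.mem_ker.1 g.2)
      exact ⟨k, Subtype.ext hk⟩
  have h2 : Nat.card S.rmap.range = S.e := by
    have hmem : ∀ q : S.rmap.range, ((q : (ZMod p)ˣ) : ZMod p) ∈ S.R := by
      rintro ⟨_, g, rfl⟩
      exact (S.rOf_spec g).1
    rw [e, ← Nat.card_eq_finsetCard]
    refine Nat.card_congr (Equiv.ofBijective (fun q => ⟨_, hmem q⟩) ⟨fun a b h => ?_, fun r => ?_⟩)
    · exact Subtype.ext (Units.ext (congrArg Subtype.val h))
    · obtain ⟨g, hg⟩ := isConj_iff.1 (S.mem_R.1 r.2)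
      let g' : S.N := ⟨g, r, r.2, hg⟩
      exact ⟨⟨S.rmap g', g', rfl⟩, Subtype.ext (S.rOf_eq g' hg)⟩
  rw [← Subgroup.card_mul_index S.rmap.ker, Subgroup.index_ker, h1, h2]

theorem isConj_N {r : ZMod p} (hr : r ∈ S.R) (k : ZMod p) :
    IsConj (pw S.xN k) (pw S.xN (r * k)) := by
  obtain ⟨g, hg⟩ := isConj_iff.1 (S.mem_R.1 hr)
  refine isConj_iff.2 ⟨⟨g, r, hr, hg⟩, Subtype.ext ?_⟩
  show g * pw S.x k * g⁻¹ = pw S.x (r * k)
  rw [← S.pw_pow r k, ← hg, conj_pow]
  rfl

theorem xN_pow : S.xN ^ p = 1 := Subtype.ext S.pow_p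

variable [Fintype L] [Fintype (Cfsg.IrrCharacter L)]

/-- A character with a fixed vector of `⟨x⟩` has a linear constituent on the normaliser that is
trivial on `⟨x⟩`. -/
theorem exists_linear [Fintype S.N] (χ : Cfsg.IrrCharacter L) (h : S.mu χ 0 ≠ 0) :
    ∃ φ : Cfsg.IrrCharacter S.N, (∀ k : ZMod p, (φ : S.N → ℂ) (pw S.xN k) = 1) ∧
      Cfsg.classInner (fun g : S.N => (χ : L → ℂ) g) (φ : S.N → ℂ) ≠ 0 := by
  classical
  set π := S.rmap.rangeRestrict with hπ
  haveI : Fintype S.rmap.range := Fintype.ofFinite _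
  let F : S.rmap.range → ℂ := fun q => ∑ g : S.N, if π g = q then (χ : L → ℂ) g else 0
  have hcomm : ∀ a b : S.rmap.range, a * b = b * a := fun a b => mul_comm a b
  have hF : Cfsg.IsClassFunction S.rmap.range F := fun a b => by
    rw [hcomm b a, mul_inv_cancel_right]
  have hF1 : F 1 = (p : ℂ) * S.mu χ 0 := by
    rw [← mu_spec, mult, ← mul_assoc, mul_inv_cancel₀ (Nat.cast_ne_zero.2 (NeZero.ne p)), one_mul]
    simp only [zero_mul, neg_zero, AddChar.map_zero_eq_one, mul_one, F]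
    refine (Finset.sum_of_injOn (fun k => pw S.xN k)
      (fun a _ b _ hab => S.pw_inj (congrArg Subtype.val hab))
      (fun _ _ => Finset.mem_coe.2 (Finset.mem_univ _)) (fun g _ hg => ?_) (fun k _ => ?_)).symm
    · rw [if_neg]
      intro h1
      obtain ⟨k, hk⟩ := S.rmap_eq_one.1 (congrArg Subtype.val h1)
      exact hg ⟨k, Finset.mem_coe.2 (Finset.mem_univ _), hk⟩
    · rw [if_pos (Subtype.ext (S.rmap_eq_one.2 ⟨k, rfl⟩)), coe_pw]
  obtain ⟨ψ, hψ⟩ : ∃ ψ : Cfsg.IrrCharacter S.rmap.range, Cfsg.classInner F ψ ≠ 0 := by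
    by_contra hall
    push Not at hall
    have := congrFun (eq_zero_of_classInner_eq_zero hF hall) 1
    rw [hF1, Pi.zero_apply, mul_eq_zero] at this
    simp [NeZero.ne p, h] at this
  refine ⟨⟨(ψ : S.rmap.range → ℂ) ∘ π,
    isIrrCharacter_comp π S.rmap.rangeRestrict_surjective ψ.2⟩, fun k => ?_, ?_⟩
  · show (ψ : S.rmap.range → ℂ) (π (pw S.xN k)) = 1
    rw [show π (pw S.xN k) = 1 from Subtype.ext (S.rmap_eq_one.2 ⟨k, rfl⟩)]
    exact degree_eq_one_of_comm hcomm ψ
  · intro h0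
    refine hψ ?_
    have : ∑ g : S.N, (χ : L → ℂ) g * conj ((ψ : S.rmap.range → ℂ) (π g)) =
        ∑ q : S.rmap.range, F q * conj ((ψ : S.rmap.range → ℂ) q) := by
      simp only [F, Finset.sum_mul, ite_mul, zero_mul]
      rw [Finset.sum_comm]
      exact Finset.sum_congr rfl fun g _ => by simp
    rw [Cfsg.classInner] at h0 ⊢
    simp only [Function.comp_apply, mul_eq_zero, inv_eq_zero, natCard_ne_zero, false_or] at h0
    rw [← this, h0, mul_zero]

namespace Split

variable {S} {U : Cfsg.IrrCharacter L} (H : S.Split U) (h2 : 2 ≤ (S.rest U).card)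
include H

theorem two_at {θ θ' : Cfsg.IrrCharacter L} (hθ : θ ∈ S.rest U) (hθ' : θ' ∈ S.rest U)
    (hne : θ ≠ θ') {i j : ZMod p} (hi : i ≠ 0) (hj : j ≠ 0) (hθi : S.mu θ i ≠ 0)
    (hθj : S.mu θ' j ≠ 0) {ψ : Cfsg.IrrCharacter L} (h1 : ψ ≠ θ) (h2' : ψ ≠ θ') :
    S.mu ψ i = S.mu ψ j := by
  classical
  have hij : ¬ S.Rel i j := by
    rintro ⟨r, hr, rfl⟩
    rw [S.mu_R hr] at hθi
    exact hne (H.unique hθ hθ' hj hθi hθj)
  obtain ⟨a, b, hab, -, -, hd⟩ := two_support _ (S.norm_two hi hj hij)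
  have e1 : S.mu θ' i = 0 := by
    by_contra h; exact hne (H.unique hθ hθ' hi hθi h)
  have e2 : S.mu θ j = 0 := by
    by_contra h; exact hne (H.unique hθ hθ' hj h hθj)
  have m1 : θ = a ∨ θ = b := by
    by_contra h
    push Not at h
    have := hd θ h.1 h.2
    omega
  have m2 : θ' = a ∨ θ' = b := by
    by_contra h
    push Not at h
    have := hd θ' h.1 h.2
    omega
  have := hd ψ (by rcases m1 with rfl | rfl <;> rcases m2 with rfl | rfl <;> tauto)
    (by rcases m1 with rfl | rfl <;> rcases m2 with rfl | rfl <;> tauto)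
  omega

include h2

theorem exists_other (θ : Cfsg.IrrCharacter L) :
    ∃ θ' ∈ S.rest U, θ' ≠ θ ∧ ∃ j : ZMod p, j ≠ 0 ∧ S.mu θ' j ≠ 0 := by
  classical
  obtain ⟨θ', hθ', hne⟩ := Finset.exists_mem_ne (by omega : 1 < (S.rest U).card) θ
  exact ⟨θ', hθ', hne, H.exists_ne_zero hθ'⟩

theorem rel_of_mem {θ : Cfsg.IrrCharacter L} (hθ : θ ∈ S.rest U) {i j : ZMod p} (hi : i ≠ 0)
    (hj : j ≠ 0) (hθi : S.mu θ i ≠ 0) (hθj : S.mu θ j ≠ 0) : S.Rel i j := by
  by_contra hij
  obtain ⟨θ', hθ', hne, k, hk, hθk⟩ := H.exists_other h2 θ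
  have h := S.norm_two hi hj hij
  rw [Finset.sum_eq_zero (fun ψ _ => ?_)] at h
  · exact absurd h (by norm_num)
  have : S.mu ψ i = S.mu ψ j := by
    rcases eq_or_ne ψ θ with rfl | h1
    · have := H.mu_le_one hθ i; have := H.mu_le_one hθ j; omega
    rcases eq_or_ne ψ θ' with rfl | h2'
    · have e1 : S.mu ψ i = 0 := by
        by_contra h; exact hne (H.unique hθ' hθ hi h hθi)
      have e2 : S.mu ψ j = 0 := by
        by_contra h; exact hne (H.unique hθ' hθ hj h hθj)
      omega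
    rw [H.two_at hθ hθ' hne.symm hi hk hθi hθk h1 h2',
      H.two_at hθ hθ' hne.symm hj hk hθj hθk h1 h2']
  simp [this]

theorem const_of_not_rest {ψ : Cfsg.IrrCharacter L} (hψ : ψ ∉ S.rest U) {i j : ZMod p}
    (hi : i ≠ 0) (hj : j ≠ 0) : S.mu ψ i = S.mu ψ j := by
  obtain ⟨θ, hθ, hθi, -⟩ := H.cover' hi
  obtain ⟨θ', hθ', hθj, -⟩ := H.cover' hj
  rcases eq_or_ne θ θ' with rfl | hne
  · obtain ⟨r, hr, rfl⟩ := H.rel_of_mem h2 hθ hi hj (by omega) (by omega)
    exact S.mu_R hr ψ j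
  · exact H.two_at hθ hθ' hne hi hj (by omega) (by omega) (fun h => hψ (h ▸ hθ))
      (fun h => hψ (h ▸ hθ'))

theorem sum_mu_rest {θ : Cfsg.IrrCharacter L} (hθ : θ ∈ S.rest U) :
    ∑ i : ZMod p, S.mu θ i = S.e := by
  classical
  obtain ⟨i₀, hi₀, hθi⟩ := H.exists_ne_zero hθ
  have h1 : S.mu θ i₀ = 1 := by have := H.mu_le_one hθ i₀; omega
  rw [e, Finset.card_eq_sum_ones]
  refine (Finset.sum_of_injOn (fun r => r * i₀) (fun a _ b _ h => mul_right_cancel₀ hi₀ h)
    (fun _ _ => Finset.mem_coe.2 (Finset.mem_univ _)) (fun i _ hi => ?_) (fun r hr => ?_)).symm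
  · by_contra hne
    have hi0 : i ≠ 0 := fun h => hne (h ▸ H.mu_zero θ hθ)
    obtain ⟨r, hr, hri⟩ := H.rel_of_mem h2 hθ hi0 hi₀ hne hθi
    exact hi ⟨r, hr, hri⟩
  · rw [S.mu_R hr, h1]

theorem deg_rest {θ : Cfsg.IrrCharacter L} (hθ : θ ∈ S.rest U) : (θ : L → ℂ) 1 = S.e := by
  rw [S.degree_eq_sum, H.sum_mu_rest h2 hθ]

theorem card_mul_e : (S.rest U).card * S.e = p - 1 := by
  classical
  rw [← smul_eq_mul, ← Finset.sum_const, Finset.sum_congr rfl fun θ hθ => (H.sum_mu_rest h2 hθ).symm,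
    Finset.sum_comm, ← Finset.add_sum_erase _ _ (Finset.mem_univ (0 : ZMod p)),
    Finset.sum_eq_zero fun θ hθ => H.mu_zero θ hθ, zero_add]
  rw [Finset.sum_congr rfl fun i hi => (show ∑ θ ∈ S.rest U, S.mu θ i = 1 by
    have h := H.cover i (Finset.ne_of_mem_erase hi)
    rw [← h]
    exact Finset.sum_congr rfl fun θ hθ => by rw [H.c_rest hθ, one_mul])]
  simp [Finset.card_erase_of_mem, ZMod.card]

theorem two_le_e : 2 ≤ S.e := by
  obtain ⟨θ, hθ⟩ := Finset.card_pos.1 (show 0 < (S.rest U).card by omega)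
  have h := H.deg_rest h2 hθ
  have hpos : 0 < S.e := Finset.card_pos.2 ⟨1, S.one_mem_R⟩
  by_contra hlt
  rw [show S.e = 1 by omega, Nat.cast_one] at h
  exact (S.mem_rest.1 hθ).1 (S.eq_one_of_linear h)

theorem deg_eq {ψ : Cfsg.IrrCharacter L} (hψ : ψ ∉ S.rest U) :
    (ψ : L → ℂ) 1 = (S.mu ψ 0 + (p - 1) * S.mu ψ 1 : ℕ) := by
  classical
  rw [S.degree_eq_sum, ← Finset.add_sum_erase _ _ (Finset.mem_univ (0 : ZMod p)),
    Finset.sum_congr rfl fun i hi =>
      H.const_of_not_rest h2 hψ (Finset.ne_of_mem_erase hi) one_ne_zero,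
    Finset.sum_const, Finset.card_erase_of_mem (Finset.mem_univ _), Finset.card_univ, ZMod.card,
    smul_eq_mul]

theorem value {ψ : Cfsg.IrrCharacter L} (hψ : ψ ∉ S.rest U) (k : ZMod p) :
    (ψ : L → ℂ) (pw S.x k) =
      ((S.mu ψ 0 : ℂ) - S.mu ψ 1) + if k = 0 then (p : ℂ) * S.mu ψ 1 else 0 := by
  classical
  have h : ∀ i : ZMod p, (S.mu ψ i : ℂ) =
      S.mu ψ 1 + if i = 0 then (S.mu ψ 0 : ℂ) - S.mu ψ 1 else 0 := by
    intro i
    split_ifs with hi
    · rw [hi]; ring
    · rw [H.const_of_not_rest h2 hψ hi one_ne_zero, add_zero]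
  rw [← sum_mult_mul S.x (ψ : L → ℂ) k]
  simp only [mu_spec]
  rw [Finset.sum_congr rfl fun i _ => by rw [h i]]
  simp only [add_mul, Finset.sum_add_distrib, ← Finset.mul_sum, sum_stdAddChar_mul, ite_mul,
    zero_mul, Finset.sum_ite_eq', Finset.mem_univ, if_true, AddChar.map_zero_eq_one, mul_one]
  split_ifs <;> ring

theorem norm_restrict [Fintype S.N] {θ : Cfsg.IrrCharacter L} (hθ : θ ∈ S.rest U) :
    Cfsg.classInner (fun g : S.N => (θ : L → ℂ) g) (fun g : S.N => (θ : L → ℂ) g) = 1 := by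
  classical
  have hch : Cfsg.IsCharacter S.N (fun g : S.N => (θ : L → ℂ) g) :=
    isCharacter_comp S.N.subtype (isCharacter_irr θ)
  obtain ⟨m, hm⟩ := exists_multiset_sum hch
  rcases Multiset.empty_or_exists_mem m with rfl | ⟨φ, hφ⟩
  · have := congrFun hm 1
    simp [apply_one_ne_zero] at this
  obtain ⟨m', rfl⟩ := Multiset.exists_cons_of_mem hφ
  rw [Multiset.map_cons, Multiset.sum_cons] at hm
  set ψ := (m'.map fun χ : Cfsg.IrrCharacter S.N => (χ : S.N → ℂ)).sum
  have hψ : Cfsg.IsCharacter S.N ψ :=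
    Multiset.sum_induction _ _ (fun _ _ => isCharacter_add) isCharacter_zero fun a ha => by
      obtain ⟨χ, -, rfl⟩ := Multiset.mem_map.1 ha
      exact isCharacter_irr χ
  choose a ha using exists_mult_nat (p := p) S.xN_pow (isCharacter_irr φ)
  choose b hb using exists_mult_nat (p := p) S.xN_pow hψ
  have hab : ∀ i, S.mu θ i = a i + b i := by
    intro i
    have h : (S.mu θ i : ℂ) = a i + b i := by
      rw [← mu_spec, ← ha, ← hb, ← mult_add, ← hm]
      rfl
    exact_mod_cast h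
  obtain ⟨i₀, hi₀⟩ : ∃ i, a i ≠ 0 := by
    by_contra hall
    push Not at hall
    have := sum_mult (p := p) S.xN (φ : S.N → ℂ)
    simp only [ha, hall, Nat.cast_zero, Finset.sum_const_zero] at this
    exact apply_one_ne_zero φ this.symm
  have hi0 : i₀ ≠ 0 := fun h => by
    have := hab i₀
    rw [h, H.mu_zero θ hθ] at this
    rw [h] at hi₀
    omega
  have hR : ∀ r ∈ S.R, a (r * i₀) = a i₀ := fun r hr => by
    have h := mult_mul_unit S.xN (φ : S.N → ℂ) (S.R_ne_zero hr)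
      (fun k => (classFunction_apply_of_isConj (isClassFunction_irr φ) (S.isConj_N hr k)).symm) i₀
    rw [ha, ha] at h
    exact_mod_cast h
  have hge : S.e ≤ ∑ i, a i := by
    calc S.e = ∑ _r ∈ S.R, 1 := Finset.card_eq_sum_ones _
      _ ≤ ∑ r ∈ S.R, a (r * i₀) := Finset.sum_le_sum fun r hr => by rw [hR r hr]; omega
      _ = ∑ i ∈ S.R.image (· * i₀), a i :=
        (Finset.sum_image fun _ _ _ _ h => mul_right_cancel₀ hi0 h).symm
      _ ≤ ∑ i, a i := Finset.sum_le_univ_sum_of_nonneg fun _ => Nat.zero_le _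
  have hb0 : ∀ i, b i = 0 := by
    have := H.sum_mu_rest h2 hθ
    rw [Finset.sum_congr rfl fun i _ => hab i, Finset.sum_add_distrib] at this
    intro i
    exact Finset.sum_eq_zero_iff.1 (by omega : ∑ i, b i = 0) i (Finset.mem_univ _)
  have hψ0 : ψ = 0 := by
    funext g
    have h1 : ψ 1 = 0 := by
      rw [← sum_mult (p := p) S.xN ψ]
      simp [hb, hb0]
    simpa [h1] using norm_apply_le hψ g
  rw [hm, hψ0, add_zero]
  exact classInner_self_irr φ

/-- Multiplicity of `χ` in `θ * conj θ`. -/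
theorem sum_apply_conj {θ : Cfsg.IrrCharacter L} (hθ : θ ∈ S.rest U) :
    mult S.x (fun g => (θ : L → ℂ) g * conj ((θ : L → ℂ) g)) (0 : ZMod p) = S.e := by
  rw [mult_mul_conj, ← H.sum_mu_rest h2 hθ, Nat.cast_sum]
  refine Finset.sum_congr rfl fun i _ => ?_
  rw [mu_spec, map_natCast, ← Nat.cast_mul]
  congr 1
  have := H.mu_le_one hθ i
  rcases Nat.le_one_iff_eq_zero_or_eq_one.1 this with h | h <;> rw [h]

theorem vanish [Fintype S.N] {θ : Cfsg.IrrCharacter L} (hθ : θ ∈ S.rest U) (g : S.N)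
    (hg : ∀ k : ZMod p, pw S.xN k ≠ g) : (θ : L → ℂ) g = 0 := by
  classical
  set f : S.N → ℝ := fun g => Complex.normSq ((θ : L → ℂ) g) with hf
  have hp0 : (p : ℂ) ≠ 0 := Nat.cast_ne_zero.2 (NeZero.ne p)
  have h1 : ((∑ g, f g : ℝ) : ℂ) = (p * S.e : ℕ) := by
    have h := H.norm_restrict h2 hθ
    rw [Cfsg.classInner, inv_mul_eq_iff_eq_mul₀ natCard_ne_zero, mul_one, S.card_N] at h
    rw [← h, Complex.ofReal_sum]
    exact Finset.sum_congr rfl fun g _ => (Complex.mul_conj _).symm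
  have h3 : ((∑ k : ZMod p, f (pw S.xN k) : ℝ) : ℂ) = (p * S.e : ℕ) := by
    have h := H.sum_apply_conj h2 hθ
    rw [mult, inv_mul_eq_iff_eq_mul₀ hp0] at h
    rw [Nat.cast_mul, ← h, Complex.ofReal_sum]
    refine Finset.sum_congr rfl fun k _ => ?_
    rw [zero_mul, neg_zero, AddChar.map_zero_eq_one, mul_one, Complex.mul_conj, hf]
    rfl
  have h4 : ∑ g, f g = ∑ g ∈ Finset.univ.image (fun k : ZMod p => pw S.xN k), f g := by
    rw [Finset.sum_image fun a _ b _ h => S.pw_inj (congrArg Subtype.val h)]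
    exact Complex.ofReal_injective (h1.trans h3.symm)
  have h5 : ∑ g ∈ (Finset.univ.image fun k : ZMod p => pw S.xN k)ᶜ, f g = 0 := by
    have := Finset.sum_add_sum_compl (Finset.univ.image fun k : ZMod p => pw S.xN k) f
    linarith
  have := (Finset.sum_eq_zero_iff_of_nonneg fun _ _ => Complex.normSq_nonneg _).1 h5 g
    (by simpa using hg)
  exact Complex.normSq_eq_zero.1 this

/-- There are exactly two exceptional constituents, and `e` is odd. -/
theorem numeric : (S.rest U).card = 2 ∧ p = 2 * S.e + 1 ∧ Odd S.e := by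
  classical
  haveI : Fintype S.N := Fintype.ofFinite _
  obtain ⟨θ, hθ⟩ := Finset.card_pos.1 (show 0 < (S.rest U).card by omega)
  obtain ⟨θ', hθ', hne, j, hj, hθj⟩ := H.exists_other h2 θ
  obtain ⟨i, hi, hθi⟩ := H.exists_ne_zero hθ
  set e' := S.e with he'
  set Q : L → ℂ := fun g => (θ : L → ℂ) g * conj ((θ : L → ℂ) g) with hQ
  have hQc : Cfsg.IsCharacter L Q :=
    isCharacter_mul (isCharacter_irr θ) (isCharacter_conj (isCharacter_irr θ))
  choose M hM using fun χ : Cfsg.IrrCharacter L => exists_classInner_nat hQc (isCharacter_irr χ)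
  have hexp : Q = ∑ χ : Cfsg.IrrCharacter L, (M χ : ℂ) • (χ : L → ℂ) := by
    rw [classFunction_eq_sum (isClassFunction_of_isCharacter hQc)]
    exact Finset.sum_congr rfl fun χ _ => by rw [hM]
  have hM1 : M (oneChar L) = 1 := by
    have h : (M (oneChar L) : ℂ) = 1 := by
      rw [← hM, ← classInner_self_irr θ]
      simp [Cfsg.classInner, hQ, oneChar_apply]
    exact_mod_cast h
  have hA : ∑ χ, M χ * S.mu χ 0 = e' := by
    have h := H.sum_apply_conj h2 hθ
    rw [← hQ, hexp, mult_sum] at h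
    simp only [mult_smul, mu_spec] at h
    exact_mod_cast h
  -- `t - n ≤ M`
  have hcM : ∀ χ, χ ∉ S.rest U → (S.mu χ 0 : ℤ) - S.mu χ 1 ≤ M χ := by
    intro χ hχ
    set P := (χ : L → ℂ) * (θ : L → ℂ) with hP
    have hPc : Cfsg.IsCharacter L P := isCharacter_mul (isCharacter_irr χ) (isCharacter_irr θ)
    choose a ha using fun ψ : Cfsg.IrrCharacter L => exists_classInner_nat hPc (isCharacter_irr ψ)
    have hPexp : P = ∑ ψ : Cfsg.IrrCharacter L, (a ψ : ℂ) • (ψ : L → ℂ) := by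
      rw [classFunction_eq_sum (isClassFunction_of_isCharacter hPc)]
      exact Finset.sum_congr rfl fun ψ _ => by rw [ha]
    have hmP : ∀ k : ZMod p, mult S.x P k =
        ((S.mu χ 0 : ℂ) - S.mu χ 1) * S.mu θ k + (S.mu χ 1 : ℂ) * e' := by
      intro k
      rw [← mu_spec S θ k, mult, mult]
      simp only [hP, Pi.mul_apply, H.value h2 hχ, add_mul, Finset.sum_add_distrib, ite_mul,
        zero_mul, Finset.sum_ite_eq', Finset.mem_univ, if_true, pw_zero, mul_zero, neg_zero,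
        AddChar.map_zero_eq_one, mul_one, H.deg_rest h2 hθ, he']
      simp only [mul_assoc, ← Finset.mul_sum]
      field_simp [NeZero.ne p]
    have hdiff : mult S.x P i - mult S.x P j = (a θ : ℂ) - a θ' := by
      rw [hPexp, mult_sum, mult_sum, ← Finset.sum_sub_distrib,
        Finset.sum_eq_add θ θ' hne.symm (fun ψ _ hψ => ?_)
          (fun h => absurd (Finset.mem_univ _) h) (fun h => absurd (Finset.mem_univ _) h)]
      · simp only [mult_smul, mu_spec]
        have e1 : S.mu θ i = 1 := by have := H.mu_le_one hθ i; omega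
        have e2 : S.mu θ' j = 1 := by have := H.mu_le_one hθ' j; omega
        have e3 : S.mu θ' i = 0 := by
          by_contra h; exact hne (H.unique hθ' hθ hi h hθi)
        have e4 : S.mu θ j = 0 := by
          by_contra h; exact hne (H.unique hθ' hθ hj hθj h)
        rw [e1, e2, e3, e4]
        push_cast
        ring
      · simp only [mult_smul, mu_spec, H.two_at hθ hθ' hne.symm hi hj hθi hθj hψ.1 hψ.2, sub_self]
    have e1 : S.mu θ i = 1 := by have := H.mu_le_one hθ i; omega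
    have e4 : S.mu θ j = 0 := by
      by_contra h; exact hne (H.unique hθ' hθ hj hθj h)
    rw [hmP, hmP, e1, e4] at hdiff
    have haM : a θ = M χ := by
      have h : (a θ : ℂ) = (M χ : ℂ) := by
        rw [← ha, ← map_natCast (starRingEnd ℂ) (M χ), ← hM, classInner_conj_symm]
        simp only [Cfsg.classInner, hP, hQ, Pi.mul_apply, map_mul, Complex.conj_conj]
        congr 1
        exact Finset.sum_congr rfl fun g _ => by ring
      exact_mod_cast h
    have hz : (S.mu χ 0 : ℤ) - S.mu χ 1 = (a θ : ℤ) - a θ' := by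
      apply Int.cast_injective (α := ℂ)
      push_cast
      push_cast at hdiff
      linear_combination hdiff
    omega
  -- `M ≤ 1`
  have hMle : ∀ χ, S.mu χ 0 ≠ 0 → M χ ≤ 1 := by
    intro χ hχ
    obtain ⟨φ, hφ1, hφ⟩ := S.exists_linear χ hχ
    choose b hb using fun ψ : Cfsg.IrrCharacter L =>
      exists_classInner_nat (isCharacter_comp S.N.subtype (isCharacter_irr ψ)) (isCharacter_irr φ)
    have hN : Cfsg.classInner (fun g : S.N => Q g) (φ : S.N → ℂ) = 1 := by
      rw [Cfsg.classInner, inv_mul_eq_iff_eq_mul₀ natCard_ne_zero, mul_one, S.card_N, Nat.cast_mul,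
        ← H.sum_apply_conj h2 hθ, mult, ← mul_assoc,
        mul_inv_cancel₀ (Nat.cast_ne_zero.2 (NeZero.ne p)), one_mul]
      refine (Finset.sum_of_injOn (fun k => pw S.xN k)
        (fun a _ b _ hab => S.pw_inj (congrArg Subtype.val hab))
        (fun _ _ => Finset.mem_coe.2 (Finset.mem_univ _)) (fun g _ hg => ?_) (fun k _ => ?_)).symm
      · rw [hQ]
        simp only
        rw [H.vanish h2 hθ g (fun k hk => hg ⟨k, Finset.mem_coe.2 (Finset.mem_univ _), hk⟩)]
        simp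
      · rw [hφ1, map_one, zero_mul, neg_zero, AddChar.map_zero_eq_one, mul_one, mul_one]
        rfl
    have hsum : ∑ ψ, M ψ * b ψ = 1 := by
      have h : ((∑ ψ, M ψ * b ψ : ℕ) : ℂ) = 1 := by
        rw [← hN, show (fun g : S.N => Q g) =
          ∑ ψ : Cfsg.IrrCharacter L, (M ψ : ℂ) • fun g : S.N => (ψ : L → ℂ) g from
          funext fun g => by rw [hexp]; simp, classInner_sum_left]
        push_cast
        exact Finset.sum_congr rfl fun ψ _ => by rw [classInner_smul_left, ← hb]; rfl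
      exact_mod_cast h
    have hle := Finset.single_le_sum (f := fun ψ => M ψ * b ψ) (fun _ _ => Nat.zero_le _)
      (Finset.mem_univ χ)
    have hb0 : b χ ≠ 0 := fun h0 => hφ <| by
      have := hb χ; rw [h0, Nat.cast_zero] at this; exact this
    simp only [hsum] at hle
    have hb1 := Nat.pos_of_ne_zero hb0
    nlinarith
  choose dg hdg using fun χ : Cfsg.IrrCharacter L => exists_degree (isCharacter_irr χ)
  have hB : ∑ χ, M χ * dg χ = e' * e' := by
    have h := congrFun hexp 1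
    rw [hQ] at h
    simp only [Finset.sum_apply, Pi.smul_apply, smul_eq_mul] at h
    rw [H.deg_rest h2 hθ, map_natCast, ← he'] at h
    simp only [hdg] at h
    exact_mod_cast h.symm
  have hd1 : dg (oneChar L) = 1 := by
    have := hdg (oneChar L)
    rw [oneChar_apply] at this
    exact_mod_cast this.symm
  -- the termwise inequality
  have key : ∀ χ, χ ≠ oneChar L → (p + 1) * (M χ * S.mu χ 0) ≤ 2 * (M χ * dg χ) ∧
      ((p + 1) * (M χ * S.mu χ 0) = 2 * (M χ * dg χ) → 2 ∣ M χ * S.mu χ 0) := by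
    intro χ hχ
    rcases Nat.eq_zero_or_pos (M χ * S.mu χ 0) with h | h
    · rw [h]; simp
    obtain ⟨hMpos, htpos⟩ := CanonicallyOrderedAdd.mul_pos.1 h
    have hM' : M χ = 1 := by have := hMle χ htpos.ne'; omega
    have hrest : χ ∉ S.rest U := fun hr => htpos.ne' (H.mu_zero χ hr)
    have hn : S.mu χ 1 ≠ 0 := fun hn => hχ (S.eq_one_of_mu fun k hk =>
      (H.const_of_not_rest h2 hrest hk one_ne_zero).trans hn)
    have hd : dg χ = S.mu χ 0 + (p - 1) * S.mu χ 1 := by
      have := H.deg_eq h2 hrest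
      rw [hdg] at this
      exact_mod_cast this
    have hc := hcM χ hrest
    rw [hM'] at hc ⊢
    rw [one_mul, one_mul, hd]
    obtain ⟨q, hq⟩ : ∃ q, p = q + 3 := ⟨p - 3, by have := S.two_lt; omega⟩
    have hqp : p - 1 = q + 2 := by omega
    rw [hqp]
    generalize S.mu χ 0 = t at *
    generalize S.mu χ 1 = n at *
    have h2n : t ≤ 2 * n := by omega
    subst hq
    refine ⟨by nlinarith, fun heq => ?_⟩
    have : t = 2 * n := by nlinarith
    exact ⟨n, this⟩
  have hAe : ∑ χ ∈ Finset.univ.erase (oneChar L), M χ * S.mu χ 0 + 1 = e' := by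
    rw [← hA, ← Finset.add_sum_erase _ _ (Finset.mem_univ (oneChar L)), hM1, S.mu_one, if_pos rfl]
    omega
  have hBe : ∑ χ ∈ Finset.univ.erase (oneChar L), M χ * dg χ + 1 = e' * e' := by
    rw [← hB, ← Finset.add_sum_erase _ _ (Finset.mem_univ (oneChar L)), hM1, hd1]
    omega
  set A := ∑ χ ∈ Finset.univ.erase (oneChar L), M χ * S.mu χ 0 with hAdef
  set B := ∑ χ ∈ Finset.univ.erase (oneChar L), M χ * dg χ with hBdef
  have hle : (p + 1) * A ≤ 2 * B := by
    rw [hAdef, hBdef, Finset.mul_sum, Finset.mul_sum]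
    exact Finset.sum_le_sum fun χ hχ => (key χ (Finset.ne_of_mem_erase hχ)).1
  have he2 := H.two_le_e h2
  rw [← he'] at he2
  have hme := H.card_mul_e h2
  rw [← he'] at hme
  set m := (S.rest U).card
  have hp1 : p = m * e' + 1 := by have := (Fact.out : p.Prime).pos; omega
  have hA2 : 1 ≤ A := by omega
  have hAe' : e' = A + 1 := hAe.symm
  have hm : m = 2 := by
    by_contra hne2
    have hm3 : 3 ≤ m := by omega
    rw [hp1, hAe'] at hle
    have : 3 * (A + 1) ≤ m * (A + 1) := Nat.mul_le_mul_right _ hm3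
    rw [hAe'] at hBe
    nlinarith
  refine ⟨hm, by rw [hp1, hm], ?_⟩
  have heq : (p + 1) * A = 2 * B := by
    rw [hAe'] at hBe
    rw [hp1, hm, hAe']
    nlinarith
  have heach : ∀ χ ∈ Finset.univ.erase (oneChar L),
      (p + 1) * (M χ * S.mu χ 0) = 2 * (M χ * dg χ) := by
    rw [hAdef, hBdef, Finset.mul_sum, Finset.mul_sum] at heq
    exact (Finset.sum_eq_sum_iff_of_le fun χ hχ => (key χ (Finset.ne_of_mem_erase hχ)).1).1 heq
  have heven : 2 ∣ A := Finset.dvd_sum fun χ hχ =>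
    (key χ (Finset.ne_of_mem_erase hχ)).2 (heach χ hχ)
  obtain ⟨k, hk⟩ := heven
  exact ⟨k, by omega⟩

end Split

end Setup

end Cfsg.Agent.Lib.Wielandt2p
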