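import Cfsg.Agent.Lib.Wielandt2p.Reduce
import Cfsg.Agent.S0669
import Cfsg.Agent.S0719

/-!
# Primitive groups of degree `2p`: the rank

Rank two is double transitivity, rank three reduces to groups of Wielandt type, rank at least
four contradicts the results for the subgroup generated by the elements of order `p`.
-/

set_option autoImplicit false
set_option linter.style.haveILetI false

namespace Cfsg.Agent.Lib.Wielandt2p

open MulAction
open scoped ComplexConjugate
open Cfsg.Agent.Lib.Characters.Basic Cfsg.Agent.Lib.Characters.Complete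
open Cfsg.Agent.Lib.Induced.Basic Cfsg.Agent.Lib.Characters.Transitive

universe u v

variable {G : Type u} [Group G] [Fintype G] (L : Subgroup G) [L.Normal] [Fintype L]

/-- An irreducible character of `G` over an invariant irreducible character `U` of a normal
subgroup has no other constituent there. -/
theorem classInner_restrict_eq_zero (U ψ : Cfsg.IrrCharacter L) (hne : U ≠ ψ)
    (hinv : ∀ (g : G) (l : L), (U : L → ℂ) (MulAut.conjNormal g l) = (U : L → ℂ) l)
    (χ : Cfsg.IrrCharacter G)
    (hχ : Cfsg.classInner (fun l : L => (χ : G → ℂ) l) (U : L → ℂ) ≠ 0) :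
    Cfsg.classInner (fun l : L => (χ : G → ℂ) l) (ψ : L → ℂ) = 0 := by
  classical
  have := Fintype.ofFinite (Cfsg.IrrCharacter G)
  set F := Cfsg.indFun L (U : L → ℂ) with hF
  have hres : (fun l : L => F l) = (L.index : ℂ) • (U : L → ℂ) := by
    funext l
    have h : ∀ x : G, Cfsg.extendByZero L (U : L → ℂ) (x⁻¹ * l * x) = (U : L → ℂ) l := by
      intro x
      have hm : x⁻¹ * (l : G) * x ∈ L := by
        simpa using (Subgroup.Normal.conj_mem (H := L) inferInstance l l.2 x⁻¹)
      rw [extendByZero_of_mem L _ hm, ← hinv x⁻¹ l]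
      exact congrArg _ (Subtype.ext (by simp [MulAut.conjNormal_apply]))
    rw [hF, Cfsg.indFun, Finset.sum_congr rfl fun x _ => h x, Finset.sum_const, Finset.card_univ,
      nsmul_eq_mul, Fintype.card_eq_nat_card, ← L.card_mul_index, Nat.cast_mul, ← mul_assoc,
      ← mul_assoc, inv_mul_cancel₀ (subgroup_card_ne_zero L), one_mul]
    rfl
  have hexp := classFunction_eq_sum (isClassFunction_indFun L (U : L → ℂ))
  have h0 : Cfsg.classInner (fun l : L => F l) (ψ : L → ℂ) = 0 := by
    rw [hres, classInner_smul_left, classInner_irr_of_ne hne, mul_zero]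
  rw [hF, hexp, show (fun l : L => (∑ φ : Cfsg.IrrCharacter G,
      Cfsg.classInner (Cfsg.indFun L (U : L → ℂ)) (φ : G → ℂ) • (φ : G → ℂ)) l) =
    ∑ φ : Cfsg.IrrCharacter G, Cfsg.classInner (Cfsg.indFun L (U : L → ℂ)) (φ : G → ℂ) •
      (fun l : L => (φ : G → ℂ) l) from funext fun l => by simp, classInner_sum_left] at h0
  simp only [classInner_smul_left, frobenius_reciprocity L _ (isClassFunction_irr _)] at h0
  choose a ha using fun φ : Cfsg.IrrCharacter G =>
    exists_classInner_nat (isCharacter_irr U) (isCharacter_comp L.subtype (isCharacter_irr φ))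
  choose b hb using fun φ : Cfsg.IrrCharacter G =>
    exists_classInner_nat (isCharacter_comp L.subtype (isCharacter_irr φ)) (isCharacter_irr ψ)
  have h1 : ((∑ φ, a φ * b φ : ℕ) : ℂ) = 0 := by
    push_cast
    rw [← h0]
    exact Finset.sum_congr rfl fun φ _ => by rw [← ha, ← hb]; rfl
  rw [Nat.cast_eq_zero, Finset.sum_eq_zero_iff] at h1
  have h2 := h1 χ (Finset.mem_univ _)
  have ha0 : a χ ≠ 0 := fun h => hχ <| by
    rw [← classInner_conj_symm, show Cfsg.classInner (U : L → ℂ) (fun l : L => (χ : G → ℂ) l) = a χ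
      from ha χ, h, Nat.cast_zero, map_zero]
  rw [show Cfsg.classInner (fun l : L => (χ : G → ℂ) l) (ψ : L → ℂ) = b χ from hb χ,
    (mul_eq_zero.1 h2).resolve_left ha0, Nat.cast_zero]

variable {α : Type v} [Fintype α] [MulAction G α]

theorem card_quotient_le :
    Nat.card (orbitRel.Quotient G (α × α)) ≤ Nat.card (orbitRel.Quotient L (α × α)) := by
  refine Nat.card_le_card_of_surjective
    (Quotient.map' id fun x y h => ?_ : orbitRel.Quotient L (α × α) → orbitRel.Quotient G (α × α))
    fun q => Quotient.inductionOn' q fun z => ⟨Quotient.mk'' z, rfl⟩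
  obtain ⟨g, hg⟩ := h
  exact ⟨(g : G), hg⟩

/-- The rank is two, or three with the degrees of Wielandt type. -/
theorem rank_cases {p : ℕ} [Fact p.Prime] [IsPretransitive G α] [Nonempty α]
    (hα : Fintype.card α = 2 * p) (S : Setup p L α)
    (long : ∀ a b : α, a ≠ b → ∃ g : L, g • a = a ∧ g • b ≠ b) :
    Nat.card (orbitRel.Quotient G (α × α)) ≤ 2 ∨
      (Nat.card (orbitRel.Quotient G (α × α)) = 3 ∧ ∃ χ₁ χ₂ : Cfsg.IrrCharacter G,
        (fun g : G => (Nat.card (fixedBy α g) : ℂ)) =
          (fun g => 1 + (χ₁ : G → ℂ) g + (χ₂ : G → ℂ) g) ∧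
        (χ₁ : G → ℂ) 1 = (p : ℂ) - 1 ∧ (χ₂ : G → ℂ) 1 = p) := by
  classical
  have := Fintype.ofFinite (Cfsg.IrrCharacter L)
  have := Fintype.ofFinite (Cfsg.IrrCharacter G)
  have hle := card_quotient_le (α := α) L
  rcases S.dichotomy with h | ⟨U, H⟩
  · left; omega
  rcases le_or_gt (Nat.card (orbitRel.Quotient G (α × α))) 2 with h | h
  · exact Or.inl h
  right
  -- rank at most three
  have hr3 : Nat.card (orbitRel.Quotient G (α × α)) = 3 := by
    by_contra hne
    have h4 : 4 ≤ 2 + (S.rest U).card := by rw [← H.rank]; omega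
    obtain ⟨hm, hp, ho⟩ := H.numeric (by omega)
    exact H.false_of_rank_four hm hp ho long
  refine ⟨hr3, ?_⟩
  -- `U` is invariant
  have hp : p.Prime := Fact.out
  have hinv : ∀ (g : G) (l : L), (U : L → ℂ) (MulAut.conjNormal g l) = (U : L → ℂ) l := by
    intro g
    let φ : L ≃* L := MulAut.conjNormal g
    let ψ : Cfsg.IrrCharacter L :=
      ⟨(U : L → ℂ) ∘ φ.toMonoidHom, isIrrCharacter_comp φ.toMonoidHom φ.surjective U.2⟩
    suffices hψ : ψ = U by
      intro l
      exact congrFun (congrArg Subtype.val hψ) l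
    have hdeg : (ψ : L → ℂ) 1 = p := by
      show (U : L → ℂ) (φ 1) = p
      rw [map_one, H.deg_U]
    have hfix : ∀ l : L, permChar α (φ l) = (permChar α l : ℂ) := by
      intro l
      unfold permChar
      congr 1
      exact Nat.card_congr
        { toFun := fun a => ⟨g⁻¹ • a.1, by
            have h : ((φ l : L) : G) • (a.1 : α) = a.1 := a.2
            rw [MulAut.conjNormal_apply, mul_smul, mul_smul] at h
            show (l : G) • g⁻¹ • a.1 = g⁻¹ • a.1
            rw [eq_inv_smul_iff]; exact h⟩
          invFun := fun a => ⟨g • a.1, by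
            show ((φ l : L) : G) • g • a.1 = g • a.1
            rw [MulAut.conjNormal_apply, mul_smul, mul_smul, inv_smul_smul,
              show (l : G) • a.1 = a.1 from a.2]⟩
          left_inv := fun a => Subtype.ext (smul_inv_smul g a.1)
          right_inv := fun a => Subtype.ext (inv_smul_smul g a.1) }
    have hc : S.c ψ = 1 := by
      have h : (S.c ψ : ℂ) = S.c U := by
        rw [← S.c_spec, ← S.c_spec, Cfsg.classInner, Cfsg.classInner]
        congr 1
        refine Fintype.sum_equiv φ.toEquiv _ _ fun l => ?_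
        show permChar α l * _ = permChar α (φ l) * _
        rw [hfix]
        rfl
      rw [H.c_U] at h
      exact_mod_cast h
    by_contra hne
    rcases eq_or_ne ψ (oneChar L) with h1 | h1
    · rw [h1, oneChar_apply, ← Nat.cast_one, Nat.cast_inj] at hdeg
      exact hp.ne_one hdeg.symm
    · obtain ⟨d, hd, hd'⟩ := H.deg_le (S.mem_rest.2 ⟨h1, hne, by omega⟩)
      rw [hdeg, Nat.cast_inj] at hd
      have := hp.two_le
      omega
  -- the constituents of the permutation character of `G`
  have hperm : Cfsg.IsCharacter G (permChar α : G → ℂ) := isCharacter_permChar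
  choose c hc using fun χ : Cfsg.IrrCharacter G =>
    exists_classInner_nat hperm (isCharacter_irr χ)
  have hexp : (permChar α : G → ℂ) = ∑ χ, (c χ : ℂ) • (χ : G → ℂ) := by
    rw [classFunction_eq_sum (isClassFunction_of_isCharacter hperm)]
    exact Finset.sum_congr rfl fun χ _ => by rw [hc]
  have hc1 : c (oneChar G) = 1 := by
    have h : (c (oneChar G) : ℂ) = 1 := by rw [← hc]; exact classInner_permChar_one α
    exact_mod_cast h
  have hsq : ∑ χ, c χ ^ 2 = 3 := by
    have h := classInner_permChar (G := G) α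
    rw [hr3, Cfsg.Agent.Lib.Induced.Generalized.classInner_eq_sum
      (Cfsg.Agent.Lib.Induced.Generalized.of_isCharacter hperm)] at h
    simp only [hc, map_natCast, ← sq] at h
    exact_mod_cast h
  have hsum2 : ∑ χ, (if χ = oneChar G then (0 : ℤ) else (c χ : ℤ)) ^ 2 = 2 := by
    have h : (∑ χ, c χ ^ 2 : ℤ) = 3 := by exact_mod_cast hsq
    rw [← Finset.add_sum_erase _ _ (Finset.mem_univ (oneChar G))] at h ⊢
    rw [if_pos rfl, Finset.sum_congr rfl fun χ hχ => by rw [if_neg (Finset.ne_of_mem_erase hχ)]]
    rw [hc1] at h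
    norm_num at h ⊢
    linarith
  obtain ⟨χa, χb, hab, ha, hb, hz⟩ := two_support _ hsum2
  have hone : ∀ χ, ((if χ = oneChar G then (0 : ℤ) else (c χ : ℤ)) = 1 ∨
      (if χ = oneChar G then (0 : ℤ) else (c χ : ℤ)) = -1) → χ ≠ oneChar G ∧ c χ = 1 := by
    intro χ h
    split_ifs at h with h1
    · simp at h
    · refine ⟨h1, ?_⟩
      rcases h with h | h
      · exact_mod_cast h
      · exact h.elim
  obtain ⟨ha1, hca⟩ := hone χa ha
  obtain ⟨hb1, hcb⟩ := hone χb hb
  have hz' : ∀ χ, χ ≠ oneChar G → χ ≠ χa → χ ≠ χb → c χ = 0 := fun χ h1 h2 h3 => by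
    have := hz χ h2 h3
    rw [if_neg h1] at this
    exact_mod_cast this
  have hπ : (permChar α : G → ℂ) = fun g => 1 + (χa : G → ℂ) g + (χb : G → ℂ) g := by
    rw [hexp, ← Finset.sum_subset (Finset.subset_univ {oneChar G, χa, χb}) (fun χ _ hχ => by
      simp only [Finset.mem_insert, Finset.mem_singleton, not_or] at hχ
      rw [hz' χ hχ.1 hχ.2.1 hχ.2.2, Nat.cast_zero, zero_smul]),
      Finset.sum_insert (by simp [ha1.symm, hb1.symm]), Finset.sum_pair hab, hc1, hca, hcb]
    funext g
    simp [oneChar_apply, add_assoc]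
  have key : ∀ χ χ' : Cfsg.IrrCharacter G,
      (permChar α : G → ℂ) = (fun g => 1 + (χ : G → ℂ) g + (χ' : G → ℂ) g) →
      Cfsg.classInner (fun l : L => (χ : G → ℂ) l) (U : L → ℂ) ≠ 0 →
      (χ : G → ℂ) 1 = p ∧ (χ' : G → ℂ) 1 = (p : ℂ) - 1 := by
    intro χ χ' hπ' hU
    choose b hb using fun ψ : Cfsg.IrrCharacter L =>
      exists_classInner_nat (isCharacter_comp L.subtype (isCharacter_irr χ)) (isCharacter_irr ψ)
    have hb0 : ∀ ψ, ψ ≠ U → b ψ = 0 := fun ψ hψ => by
      have h := classInner_restrict_eq_zero L U ψ (Ne.symm hψ) hinv χ hU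
      rw [show Cfsg.classInner (fun l : L => (χ : G → ℂ) l) (ψ : L → ℂ) = b ψ from hb ψ] at h
      exact_mod_cast h
    have hres : (fun l : L => (χ : G → ℂ) l) = (b U : ℂ) • (U : L → ℂ) := by
      rw [classFunction_eq_sum (isClassFunction_of_isCharacter
        (isCharacter_comp L.subtype (isCharacter_irr χ)) :
        Cfsg.IsClassFunction L (fun l : L => (χ : G → ℂ) l))]
      rw [Finset.sum_eq_single U (fun ψ _ hψ => by
        rw [show Cfsg.classInner (fun l : L => (χ : G → ℂ) l) (ψ : L → ℂ) = b ψ from hb ψ,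
          hb0 ψ hψ, Nat.cast_zero, zero_smul]) (fun h => absurd (Finset.mem_univ _) h),
        show Cfsg.classInner (fun l : L => (χ : G → ℂ) l) (U : L → ℂ) = b U from hb U]
    -- the multiplicity is one
    obtain ⟨k, hk⟩ := exists_classInner_nat (isCharacter_comp L.subtype (isCharacter_irr χ'))
      (isCharacter_irr U)
    have hsplit : ((1 : ℕ) : ℂ) = ((b U + k : ℕ) : ℂ) := by
      rw [← H.c_U, ← S.c_spec, Nat.cast_add, ← hk, ← hb U]
      have e : (permChar α : L → ℂ) = (oneChar L : L → ℂ) + (χ : G → ℂ) ∘ L.subtype +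
          (χ' : G → ℂ) ∘ L.subtype := funext fun l => congrFun hπ' (l : G)
      rw [e, classInner_add_left, classInner_add_left, classInner_irr_of_ne H.ne_one.symm, zero_add]
    have hbU : b U = 1 := by
      have hb0' : b U ≠ 0 := fun h0 => hU <| by
        rw [show Cfsg.classInner (fun l : L => (χ : G → ℂ) l) (U : L → ℂ) = b U from hb U, h0,
          Nat.cast_zero]
      norm_cast at hsplit
      omega
    have hd : (χ : G → ℂ) 1 = p := by
      have := congrFun hres 1
      simp only [Pi.smul_apply, smul_eq_mul, hbU, Nat.cast_one, one_mul, H.deg_U,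
        OneMemClass.coe_one] at this
      exact this
    refine ⟨hd, ?_⟩
    have h1 := congrFun hπ' 1
    rw [hd] at h1
    have h2 : permChar α (1 : G) = (2 * p : ℕ) := by
      unfold permChar
      have : fixedBy α (1 : G) = Set.univ := by ext a; simp
      rw [this, Nat.card_coe_set_eq, Set.ncard_univ, Nat.card_eq_fintype_card, hα]
    rw [h2] at h1
    push_cast at h1
    linear_combination -h1
  by_cases hU : Cfsg.classInner (fun l : L => (χa : G → ℂ) l) (U : L → ℂ) = 0
  · have hU' : Cfsg.classInner (fun l : L => (χb : G → ℂ) l) (U : L → ℂ) ≠ 0 := by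
      intro h0
      have e : (permChar α : L → ℂ) = (oneChar L : L → ℂ) + (fun l : L => (χa : G → ℂ) l) +
          (fun l : L => (χb : G → ℂ) l) := funext fun l => congrFun hπ (l : G)
      have h := S.c_spec U
      rw [e, classInner_add_left, classInner_add_left, classInner_irr_of_ne H.ne_one.symm, hU, h0,
        H.c_U] at h
      norm_num at h
    have hπ' : (permChar α : G → ℂ) = fun g => 1 + (χb : G → ℂ) g + (χa : G → ℂ) g := by
      rw [hπ]; funext g; ring
    obtain ⟨h1, h2⟩ := key χb χa hπ' hU'
    exact ⟨χa, χb, hπ, h2, h1⟩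
  · obtain ⟨h1, h2⟩ := key χa χb hπ hU
    exact ⟨χb, χa, by rw [show (fun g : G => (Nat.card (fixedBy α g) : ℂ)) = _ from hπ]; funext g; ring, h2, h1⟩

omit [Fintype G] in
/-- A group of degree four with an element of order three fixing a point, or a `2`-group. -/
theorem two_transitive_of_four [Finite G] [FaithfulSMul G α] [IsPretransitive G α]
    (hG : IsPreprimitive G α) (hα : Fintype.card α = 4) : IsMultiplyPretransitive G α 2 := by
  classical
  haveI := hG
  haveI : Nontrivial α := Fintype.one_lt_card_iff_nontrivial.1 (by omega)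
  haveI : Fact (Nat.Prime 3) := ⟨Nat.prime_three⟩
  obtain ⟨a⟩ : Nonempty α := inferInstance
  have hdiv : Nat.card G ∣ 24 := by
    have h := Subgroup.card_dvd_of_injective (MulAction.toPermHom G α) MulAction.toPerm_injective
    rw [Nat.card_perm, Nat.card_eq_fintype_card (α := α), hα] at h
    simpa [Nat.factorial] using h
  by_cases h3 : 3 ∣ Nat.card G
  · obtain ⟨g, hg⟩ := exists_prime_orderOf_dvd_card' 3 h3
    set σ : Equiv.Perm α := MulAction.toPermHom G α g
    have hσ : orderOf σ = 3 := by
      rw [orderOf_injective (MulAction.toPermHom G α) MulAction.toPerm_injective, hg]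
    have hcyc : σ.IsCycle := Equiv.Perm.isCycle_of_prime_order (by rw [hσ]; exact Nat.prime_three)
      (by rw [hσ]; exact lt_of_le_of_lt (Finset.card_le_univ _) (by omega))
    have hsup : σ.support.card = 3 := by rw [← hcyc.orderOf, hσ]
    obtain ⟨a₁, ha₁⟩ : ∃ a₁, a₁ ∉ σ.support := by
      by_contra hall
      push Not at hall
      have := Finset.card_le_card fun y (_ : y ∈ (Finset.univ : Finset α)) => hall y
      rw [hsup, Finset.card_univ] at this
      omega
    have hall : ∀ y, y ≠ a₁ → y ∈ σ.support := by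
      intro y hy
      by_contra hn
      have : ({a₁, y} : Finset α).card + σ.support.card ≤ Fintype.card α := by
        rw [← Finset.card_union_of_disjoint (by simp [ha₁, hn])]
        exact Finset.card_le_univ _
      rw [Finset.card_pair hy.symm, hsup] at this
      omega
    have hfix : g • a₁ = a₁ := Equiv.Perm.notMem_support.1 ha₁
    have hstep : ∀ x y : α, x ≠ a₁ → y ≠ a₁ → ∃ h : G, h • a₁ = a₁ ∧ h • x = y := by
      intro x y hx hy
      obtain ⟨i, hi⟩ := hcyc.sameCycle (Equiv.Perm.mem_support.1 (hall x hx))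
        (Equiv.Perm.mem_support.1 (hall y hy))
      rw [← map_zpow] at hi
      exact ⟨g ^ i, (zpow_mem (show g ∈ stabilizer G a₁ from hfix) i), hi⟩
    rw [is_two_pretransitive_iff]
    intro x y x' y' hxy hxy'
    obtain ⟨u, hu⟩ := exists_smul_eq G x a₁
    obtain ⟨u', hu'⟩ := exists_smul_eq G x' a₁
    obtain ⟨h, h1, h2⟩ := hstep (u • y) (u' • y')
      (fun e => hxy (MulAction.injective u (hu.trans e.symm)))
      (fun e => hxy' (MulAction.injective u' (hu'.trans e.symm)))
    refine ⟨u'⁻¹ * h * u, ?_, ?_⟩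
    · rw [mul_smul, mul_smul, hu, h1, inv_smul_eq_iff, hu']
    · rw [mul_smul, mul_smul, h2, inv_smul_smul]
  · exfalso
    obtain ⟨k, -, hk⟩ : ∃ k ≤ 3, Nat.card G = 2 ^ k := (Nat.dvd_prime_pow Nat.prime_two).1
      ((((Nat.prime_three.coprime_iff_not_dvd).2 h3).symm).dvd_of_dvd_mul_right (hdiv : _ ∣ 8 * 3))
    haveI : Fact (Nat.Prime 2) := ⟨Nat.prime_two⟩
    have hP : IsPGroup 2 G := IsPGroup.of_card hk
    haveI := hP.isNilpotent
    have hmax := IsPreprimitive.isCoatom_stabilizer_of_isPreprimitive G a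
    haveI : (stabilizer G a).Normal :=
      Subgroup.NormalizerCondition.normal_of_coatom _ Group.normalizerCondition_of_isNilpotent hmax
    have hbot : stabilizer G a = ⊥ := by
      refine (Subgroup.eq_bot_iff_forall _).2 fun g hg => FaithfulSMul.eq_of_smul_eq_smul fun y : α => ?_
      obtain ⟨h, rfl⟩ := exists_smul_eq G a y
      rw [one_smul]
      have := Subgroup.Normal.conj_mem (H := stabilizer G a) inferInstance g hg h⁻¹
      rw [mem_stabilizer_iff, inv_inv, mul_smul, mul_smul, inv_smul_eq_iff] at this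
      exact this
    have hcard : Nat.card G = 4 := by
      rw [← hα, ← Nat.card_eq_fintype_card, ← index_stabilizer_of_transitive G a, hbot,
        Subgroup.index_bot]
    obtain ⟨g, hg⟩ := exists_prime_orderOf_dvd_card' 2 (show 2 ∣ Nat.card G by rw [hcard]; norm_num)
    have hne : Subgroup.zpowers g ≠ ⊤ := fun h => by
      have := Subgroup.card_top (G := G)
      rw [← h, Nat.card_zpowers, hg, hcard] at this
      omega
    have hlt : stabilizer G a < Subgroup.zpowers g := by
      rw [hbot, bot_lt_iff_ne_bot, Ne, Subgroup.zpowers_eq_bot]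
      intro h
      rw [h, orderOf_one] at hg
      omega
    exact hne (hmax.2 _ hlt)

end Cfsg.Agent.Lib.Wielandt2p
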