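import Cfsg.Agent.Lib.Characters.Linear
import Mathlib.NumberTheory.LegendreSymbol.AddCharacter
import Mathlib.Analysis.SpecialFunctions.Complex.CircleAddChar

/-!
# Multiplicities along a cyclic subgroup of prime order

`mult x f i` is the Fourier coefficient at `i : ZMod p` of `k ↦ f (x ^ k)`; for a character it is
the multiplicity of the linear character `x ^ k ↦ ζ ^ (i k)`.
-/

set_option autoImplicit false

namespace Cfsg.Agent.Lib.Wielandt2p

open ZMod (stdAddChar)
open scoped ComplexConjugate
open Cfsg.Agent.Lib.Characters.Basic Cfsg.Agent.Lib.Characters.Linear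

universe u

variable {H : Type u} [Group H] {p : ℕ} [NeZero p]

/-- The power of `x` with exponent in `ZMod p`. -/
def pw (x : H) (k : ZMod p) : H := x ^ k.val

omit [NeZero p] in
theorem pw_zero (x : H) : pw x (0 : ZMod p) = 1 := by simp [pw]

theorem pw_add {x : H} (hx : x ^ p = 1) (a b : ZMod p) : pw x (a + b) = pw x a * pw x b := by
  simp only [pw, ZMod.val_add, ← pow_add]
  exact (pow_eq_pow_mod (a.val + b.val) hx).symm

/-- Fourier coefficient along `x`. -/
noncomputable def mult (x : H) (f : H → ℂ) (i : ZMod p) : ℂ :=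
  (p : ℂ)⁻¹ * ∑ k : ZMod p, f (pw x k) * stdAddChar (-(i * k))

theorem mult_add (x : H) (f g : H → ℂ) (i : ZMod p) :
    mult x (f + g) i = mult x f i + mult x g i := by
  simp [mult, add_mul, Finset.sum_add_distrib, mul_add]

theorem mult_smul (x : H) (c : ℂ) (f : H → ℂ) (i : ZMod p) :
    mult x (c • f) i = c * mult x f i := by
  simp only [mult, Pi.smul_apply, smul_eq_mul, mul_assoc, ← Finset.mul_sum]
  ring

theorem mult_sum (x : H) {ι : Type*} (s : Finset ι) (f : ι → H → ℂ) (i : ZMod p) :
    mult x (∑ j ∈ s, f j) i = ∑ j ∈ s, mult x (f j) i := by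
  classical
  induction s using Finset.induction_on with
  | empty => simp [mult]
  | insert a s ha ih => rw [Finset.sum_insert ha, Finset.sum_insert ha, mult_add, ih]

theorem sum_stdAddChar_mul (b : ZMod p) :
    ∑ k : ZMod p, stdAddChar (k * b) = if b = 0 then (p : ℂ) else 0 := by
  classical
  rw [AddChar.sum_mulShift b (ZMod.isPrimitive_stdAddChar p)]
  split_ifs <;> simp [ZMod.card]

theorem conj_stdAddChar (a : ZMod p) : conj (stdAddChar a) = stdAddChar (-a) :=
  (AddChar.map_neg_eq_conj _ _).symm

/-- Fourier inversion. -/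
theorem sum_mult_mul (x : H) (f : H → ℂ) (j : ZMod p) :
    ∑ i : ZMod p, mult x f i * stdAddChar (i * j) = f (pw x j) := by
  classical
  simp only [mult, mul_assoc, Finset.sum_mul, ← Finset.mul_sum]
  rw [Finset.sum_comm]
  have h : ∀ k : ZMod p, ∑ i : ZMod p, f (pw x k) * (stdAddChar (-(i * k)) * stdAddChar (i * j)) =
      if k = j then f (pw x k) * p else 0 := by
    intro k
    rw [← Finset.mul_sum]
    have e : ∀ i : ZMod p, stdAddChar (-(i * k)) * stdAddChar (i * j) = stdAddChar (i * (j - k)) :=
      fun i => by rw [← AddChar.map_add_eq_mul]; congr 1; ring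
    simp only [e, sum_stdAddChar_mul, sub_eq_zero, eq_comm (a := j)]
    split_ifs <;> simp
  simp only [h, Finset.sum_ite_eq', Finset.mem_univ, if_true]
  field_simp [NeZero.ne p]

theorem sum_mult (x : H) (f : H → ℂ) : ∑ i : ZMod p, mult x f i = f 1 := by
  simpa [pw_zero] using sum_mult_mul x f (0 : ZMod p)

/-- The multiplicities of a character are natural numbers. -/
theorem exists_mult_nat [Finite H] {x : H} (hx : x ^ p = 1) {f : H → ℂ}
    (hf : Cfsg.IsCharacter H f) (i : ZMod p) : ∃ n : ℕ, mult x f i = n := by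
  let φ : Multiplicative (ZMod p) →* H :=
    { toFun := fun k => pw x (Multiplicative.toAdd k)
      map_one' := pw_zero x
      map_mul' := fun a b => pw_add hx _ _ }
  let lam : Multiplicative (ZMod p) →* ℂˣ := MonoidHom.toHomUnits
    { toFun := fun k => stdAddChar (i * Multiplicative.toAdd k)
      map_one' := by simp
      map_mul' := fun a b => by
        rw [toAdd_mul, mul_add, AddChar.map_add_eq_mul] }
  obtain ⟨m, hm⟩ := exists_classInner_nat (G := Multiplicative (ZMod p))
    (isCharacter_comp φ hf) (isCharacter_irr (linChar lam))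
  refine ⟨m, ?_⟩
  rw [← hm, mult, Cfsg.classInner]
  simp only [Nat.card_eq_fintype_card, Fintype.card_multiplicative, ZMod.card]
  congr 1
  refine Fintype.sum_equiv Multiplicative.ofAdd _ _ fun k => ?_
  rw [linChar_apply]
  show f (pw x k) * _ = f (pw x k) * conj (stdAddChar (i * k))
  rw [conj_stdAddChar]

/-- The trivial multiplicity of `f * conj f` is the sum of the squared multiplicities. -/
theorem mult_mul_conj (x : H) (f : H → ℂ) :
    mult x (fun g => f g * conj (f g)) (0 : ZMod p) =
      ∑ i : ZMod p, mult x f i * conj (mult x f i) := by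
  have h : ∀ k : ZMod p, conj (f (pw x k)) =
      ∑ i : ZMod p, conj (mult x f i) * stdAddChar (-(i * k)) := fun k => by
    rw [← sum_mult_mul x f k, map_sum]
    exact Finset.sum_congr rfl fun i _ => by rw [map_mul, conj_stdAddChar]
  rw [mult]
  simp only [zero_mul, neg_zero, AddChar.map_zero_eq_one, mul_one]
  simp only [h, Finset.mul_sum]
  rw [Finset.sum_comm]
  refine Finset.sum_congr rfl fun i _ => ?_
  rw [show mult x f i * conj (mult x f i) =
    (p : ℂ)⁻¹ * (∑ k : ZMod p, f (pw x k) * stdAddChar (-(i * k))) * conj (mult x f i) from rfl,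
    mul_assoc, Finset.sum_mul, Finset.mul_sum]
  refine Finset.sum_congr rfl fun k _ => ?_
  ring

/-- A substitution `k ↦ r * k` permuting the arguments. -/
theorem mult_mul_unit [Fact p.Prime] (x : H) (f : H → ℂ) {r : ZMod p} (hr : r ≠ 0)
    (hf : ∀ k, f (pw x (r * k)) = f (pw x k)) (i : ZMod p) :
    mult x f (r * i) = mult x f i := by
  simp only [mult]
  congr 1
  refine Fintype.sum_equiv (Equiv.mulLeft₀ r hr) _ _ fun k => ?_
  rw [Equiv.mulLeft₀_apply, hf, show r * i * k = i * (r * k) by ring]

end Cfsg.Agent.Lib.Wielandt2p
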