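import Cfsg.Agent.Lib.Wielandt2p.Bound
import Cfsg.Agent.S0717
import Cfsg.Agent.S0669

/-!
# Transitive groups of degree `2p`: rank four is impossible

For an orbital `O` the function `g ↦ #{z | (z, g z) ∈ O}` gives an integer `A` attached to the
constituent of degree `p`, with `k + A` a non-negative multiple of `e`.  The idempotent of that
constituent gives `∑ A² / k = 1`, which leaves no solution with `e` odd.
-/

set_option autoImplicit false
set_option linter.unusedSectionVars false
set_option linter.style.haveILetI false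

namespace Cfsg.Agent.Lib.Wielandt2p

open ZMod (stdAddChar)
open MulAction
open scoped ComplexConjugate
open Cfsg.Agent.Lib.Characters.Basic Cfsg.Agent.Lib.Characters.Complete
open Cfsg.Agent.Lib.Characters.Linear Cfsg.Agent.Lib.Induced.Basic
open Cfsg.Agent.Lib.Characters.Transitive Cfsg.Agent.Lib.PermTrans.Constituents

universe u v

section general

variable {L : Type u} [Group L] [Fintype L] {α : Type v} [Fintype α] [MulAction L α]

/-- The sum of `f` over the elements carrying `z` to `y`. -/
noncomputable def wsum (f : L → ℂ) (z y : α) : ℂ :=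
  open scoped Classical in ∑ g : L, if g • z = y then f g else 0

theorem wsum_smul {f : L → ℂ} (hf : Cfsg.IsClassFunction L f) (h : L) (z y : α) :
    wsum f (h • z) (h • y) = wsum f z y := by
  classical
  refine Fintype.sum_equiv (MulAut.conj h⁻¹).toEquiv _ _ fun g => ?_
  simp only [MulEquiv.toEquiv_eq_coe, EquivLike.coe_coe, MulAut.conj_apply, inv_inv]
  have h1 : f (h⁻¹ * g * h) = f g := by simpa using hf g h⁻¹
  rw [h1]
  congr 1
  rw [mul_smul, mul_smul, inv_smul_eq_iff]

theorem wsum_swap {f : L → ℂ} (hf : ∀ g, f g⁻¹ = f g) (z y : α) : wsum f z y = wsum f y z := by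
  classical
  refine Fintype.sum_equiv (Equiv.inv L) _ _ fun g => ?_
  simp only [Equiv.inv_apply, hf]
  congr 1
  exact propext ⟨fun h => by rw [← h, inv_smul_smul], fun h => by rw [← h, smul_inv_smul]⟩

theorem wsum_eq_zero (χ : Cfsg.IrrCharacter L)
    (h : Cfsg.classInner (permChar α : L → ℂ) (χ : L → ℂ) = 0) (z y : α) :
    wsum (χ : L → ℂ) z y = 0 := by
  classical
  have h1 : Cfsg.classInner (Cfsg.permRep ℂ L α).character (χ : L → ℂ) = 0 := by
    rw [character_permRep]; exact h
  have h2 := Cfsg.Agent.S0717.ent_avg (G := L) (χ : L → ℂ) z y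
  rw [Cfsg.Agent.S0717.avg_irr_eq_zero χ _ h1, Cfsg.Agent.S0717.ent_apply, LinearMap.zero_apply,
    Pi.zero_apply] at h2
  rw [h2, wsum]
  refine Finset.sum_congr rfl fun g _ => ?_
  congr 1
  rw [inv_smul_eq_iff]
  exact propext eq_comm

/-- The convolution of an irreducible character with itself. -/
theorem sum_mul_irr (χ : Cfsg.IrrCharacter L) (u : L) :
    ∑ g : L, (χ : L → ℂ) g * (χ : L → ℂ) (u * g⁻¹) =
      (Nat.card L : ℂ) / (χ : L → ℂ) 1 * (χ : L → ℂ) u := by
  obtain ⟨n, ρ, hρ, hχ⟩ := exists_rep χ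
  obtain ⟨c, hc, hc'⟩ := avg_eq_scalar (isClassFunction_irr χ) ρ
  have h1 : ∑ g : L, (χ : L → ℂ) g * conj (ρ.character g) = Nat.card L := by
    have h := classInner_self_irr χ
    rw [Cfsg.classInner, inv_mul_eq_iff_eq_mul₀ natCard_ne_zero, mul_one] at h
    rw [hχ, h]
  rw [h1, ← Representation.char_one ρ, hχ] at hc'
  have h2 := congrArg (LinearMap.trace ℂ _) (congrArg (fun T => ρ u * T) hc)
  simp only [avg, Finset.mul_sum, mul_smul_comm, ← map_mul, mul_one, map_sum, map_smul,
    smul_eq_mul] at h2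
  rw [← hc', mul_div_assoc, div_self (apply_one_ne_zero χ), mul_one]
  simp only [← hχ]
  rw [← hχ] at h2
  exact h2

theorem sum_wsum_mul (χ : Cfsg.IrrCharacter L) (x z : α) :
    ∑ y, wsum (χ : L → ℂ) x y * wsum (χ : L → ℂ) y z =
      (Nat.card L : ℂ) / (χ : L → ℂ) 1 * wsum (χ : L → ℂ) x z := by
  classical
  simp only [wsum, Finset.sum_mul, ite_mul, zero_mul]
  rw [Finset.sum_comm, Finset.mul_sum]
  simp only [Finset.sum_ite_eq, Finset.mem_univ, if_true, Finset.mul_sum, mul_ite, mul_zero]
  simp only [← sum_mul_irr, Finset.mul_sum]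
  have e : ∀ g : L, ∑ h : L, (if h • (g • x) = z then (χ : L → ℂ) g * (χ : L → ℂ) h else 0) =
      ∑ u : L, if u • x = z then (χ : L → ℂ) g * (χ : L → ℂ) (u * g⁻¹) else 0 := fun g => by
    refine Fintype.sum_equiv (Equiv.mulRight g) _ _ fun h => ?_
    simp only [Equiv.coe_mulRight, mul_inv_cancel_right, mul_smul]
  rw [Finset.sum_congr rfl fun g _ => e g, Finset.sum_comm]
  refine Finset.sum_congr rfl fun u _ => ?_
  split_ifs <;> simp

/-- The number of points moved along the orbital of `(a, b)`. -/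
noncomputable def along (a b : α) (g : L) : ℂ := ∑ z, orbital L a b z (g • z)

theorem isClassFunction_along (a b : α) : Cfsg.IsClassFunction L (along a b : L → ℂ) := by
  intro g h
  refine (Fintype.sum_equiv (MulAction.toPerm h) _ _ fun z => ?_).symm
  simp only [MulAction.toPerm_apply, mul_smul, inv_smul_smul, orbital_smul]

theorem classInner_along [IsPretransitive L α] (a b : α) {f : L → ℂ}
    (hf : Cfsg.IsClassFunction L f) :
    Cfsg.classInner (along a b) f =
      (Nat.card (orbit (stabilizer L a) b) : ℂ) * conj (wsum f a b) /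
        Nat.card (stabilizer L a) := by
  classical
  have hL : Nat.card L = Fintype.card α * Nat.card (stabilizer L a) := by
    rw [← Nat.card_eq_fintype_card, ← index_stabilizer_of_transitive L a,
      Subgroup.index_mul_card]
  have key : ∑ g : L, along a b g * conj (f g) =
      (Fintype.card α : ℂ) * Nat.card (orbit (stabilizer L a) b) * conj (wsum f a b) := by
    simp only [along, Finset.sum_mul]
    rw [Finset.sum_comm, mul_assoc, ← nsmul_eq_mul, ← Finset.card_univ, ← Finset.sum_const]
    refine Finset.sum_congr rfl fun z _ => ?_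
    rw [← orbital_row_sum (G := L) a b z, Finset.sum_mul]
    have e : ∀ y, orbital L a b z y * conj (wsum f a b) = orbital L a b z y * conj (wsum f z y) := by
      intro y
      by_cases h : (z, y) ∈ orbit L (a, b)
      · obtain ⟨k, hk⟩ := h
        rw [← show k • a = z from congrArg Prod.fst hk, ← show k • b = y from congrArg Prod.snd hk,
          wsum_smul hf]
      · rw [orbital, Set.indicator_of_notMem h, zero_mul, zero_mul]
    rw [Finset.sum_congr rfl fun y _ => e y]
    simp only [wsum, map_sum, Finset.mul_sum]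
    rw [Finset.sum_comm]
    refine Finset.sum_congr rfl fun g _ => ?_
    simp only [apply_ite conj, map_zero, mul_ite, mul_zero, Finset.sum_ite_eq, Finset.mem_univ,
      if_true]
  rw [Cfsg.classInner, key, hL, Nat.cast_mul]
  have : Nonempty α := ⟨a⟩
  have h0 : (Fintype.card α : ℂ) ≠ 0 := Nat.cast_ne_zero.2 Fintype.card_ne_zero
  field_simp

theorem along_self_eq [IsPretransitive L α] (a : α) : along a a = (permChar α : L → ℂ) := by
  classical
  funext g
  rw [along, permChar, Nat.card_eq_fintype_card, Fintype.card_subtype, Finset.natCast_card_filter]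
  refine Finset.sum_congr rfl fun z _ => ?_
  simp only [orbital, Set.indicator_apply]
  congr 1
  refine propext ⟨?_, fun h => ?_⟩
  · rintro ⟨k, hk⟩
    exact ((congrArg Prod.snd hk).symm.trans (congrArg Prod.fst hk))
  · obtain ⟨k, hk⟩ := exists_smul_eq L a z
    exact ⟨k, Prod.ext hk (hk.trans (show g • z = z from h).symm)⟩

omit [Fintype L] in
theorem card_orbit_self (a : α) : Nat.card (orbit (stabilizer L a) a) = 1 := by
  rw [Nat.card_eq_one_iff_unique]
  exact ⟨⟨fun ⟨_, g, hg⟩ ⟨_, h, hh⟩ => Subtype.ext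
    (hg.symm.trans (g.2.trans (h.2.symm.trans hh)))⟩, ⟨a, mem_orbit_self a⟩⟩

end general

variable {p : ℕ} [Fact p.Prime] {L : Type u} [Group L] [Fintype L] {α : Type v} [Fintype α]
  [MulAction L α] [Fintype (Cfsg.IrrCharacter L)]

namespace Setup

variable (S : Setup p L α)

theorem c_conjChar (χ : Cfsg.IrrCharacter L) : S.c (conjChar χ) = S.c χ := by
  have h : (S.c (conjChar χ) : ℂ) = conj (S.c χ : ℂ) := by
    rw [← S.c_spec, ← S.c_spec]
    simp [Cfsg.classInner, conjChar_apply, permChar]
  rw [map_natCast] at h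
  exact_mod_cast h

theorem mu_conjChar (χ : Cfsg.IrrCharacter L) (i : ZMod p) :
    S.mu (conjChar χ) i = S.mu χ (-i) := by
  have h : (S.mu (conjChar χ) i : ℂ) = conj (S.mu χ (-i) : ℂ) := by
    rw [← mu_spec, ← mu_spec]
    simp only [mult, map_mul, map_sum, map_inv₀, map_natCast, conj_stdAddChar, conjChar_apply,
      neg_mul, neg_neg]
  rw [map_natCast] at h
  exact_mod_cast h

namespace Split

variable {S} {U : Cfsg.IrrCharacter L} (H : S.Split U)
include H

theorem conj_U : conjChar U = U := by
  by_contra hne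
  have hc : S.c (conjChar U) = 1 := by rw [S.c_conjChar, H.c_U]
  have h0 : S.mu (conjChar U) 0 = 1 := by rw [S.mu_conjChar, H.mu_U]
  have h1 : conjChar U ≠ oneChar L := fun h => H.ne_one <| by
    have h' := congrArg conjChar h
    rw [conjChar_conjChar] at h'
    rw [h']
    exact Subtype.ext (funext fun g => by rw [conjChar_apply, oneChar_apply, map_one])
  have := H.mu_zero _ (S.mem_rest.2 ⟨h1, hne, by rw [hc]; exact one_ne_zero⟩)
  omega

theorem inv_U (g : L) : (U : L → ℂ) g⁻¹ = (U : L → ℂ) g := by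
  rw [apply_inv (isCharacter_irr U), ← conjChar_apply, H.conj_U]

/-- The integer attached to the orbital of `(a, b)`. -/
theorem exists_A [IsPretransitive L α] (h2 : 2 ≤ (S.rest U).card) {a b : α} (hb : b ≠ a) :
    ∃ A : ℤ, (Nat.card (orbit (stabilizer L a) b) : ℂ) * wsum (U : L → ℂ) a b =
        (A : ℂ) * Nat.card (stabilizer L a) ∧
      ∃ l : ℕ, (Nat.card (orbit (stabilizer L a) b) : ℤ) + A = (S.e * l : ℕ) := by
  classical
  set k := Nat.card (orbit (stabilizer L a) b)
  set F : L → ℂ := along a b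
  have hH : (Nat.card (stabilizer L a) : ℂ) ≠ 0 := subgroup_card_ne_zero _
  -- the values at powers of `x` are multiples of `p`
  have hM : ∀ j : ZMod p, ∃ M : ℕ, F (pw S.x j) = (p : ℂ) * M := by
    intro j
    let T : Finset α := Finset.univ.filter fun z => (z, pw S.x j • z) ∈ orbit L (a, b)
    have hF : F (pw S.x j) = T.card := by
      rw [Finset.natCast_card_filter]
      refine Finset.sum_congr rfl fun z _ => ?_
      simp only [orbital, Set.indicator_apply]
    let P := Subgroup.zpowers S.x
    let TS : SubMulAction P α :=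
      { carrier := {z | (z, pw S.x j • z) ∈ orbit L (a, b)}
        smul_mem' := fun g z hz => by
          obtain ⟨n, hn⟩ := g.2
          have hc : Commute (pw S.x j) (g : L) := by
            rw [← hn]; exact ((Commute.refl S.x).pow_left _).zpow_right _
          show ((g : L) • z, pw S.x j • ((g : L) • z)) ∈ orbit L (a, b)
          rw [← mul_smul, hc.eq, mul_smul]
          exact mem_orbit_of_mem_orbit (g : L) hz }
    have hP : IsPGroup p P := IsPGroup.of_card (n := 1) (by rw [Nat.card_zpowers, S.order, pow_one])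
    have hfix : fixedPoints P TS = ∅ := by
      ext ⟨z, hz⟩
      simp only [mem_fixedPoints, Set.mem_empty_iff_false, iff_false]
      intro h
      refine S.free 1 (fun hd => (Fact.out : p.Prime).ne_one (Nat.dvd_one.1 hd)) z ?_
      rw [pow_one]
      exact congrArg Subtype.val (h ⟨S.x, Subgroup.mem_zpowers _⟩)
    have hd := hP.card_modEq_card_fixedPoints (α := TS)
    rw [hfix] at hd
    rw [Nat.card_eq_zero.2 (Or.inl (Set.isEmpty_coe_sort.2 rfl))] at hd
    obtain ⟨M, hM⟩ := Nat.modEq_zero_iff_dvd.1 hd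
    refine ⟨M, ?_⟩
    rw [hF, ← Nat.cast_mul, ← hM]
    congr 1
    rw [Nat.card_eq_fintype_card, ← Fintype.card_coe]
    exact Fintype.card_congr (Equiv.subtypeEquivRight fun z => by simp [T]; rfl)
  choose M hM using hM
  have hmult : ∀ i : ZMod p, mult S.x F i = ∑ j, (M j : ℂ) * stdAddChar (-(i * j)) := by
    intro i
    simp only [mult, hM, mul_assoc, ← Finset.mul_sum]
    rw [← mul_assoc, inv_mul_cancel₀ (Nat.cast_ne_zero.2 (NeZero.ne p)), one_mul]
  have hint : ∀ i : ZMod p, IsIntegral ℤ (mult S.x F i) := by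
    intro i
    rw [hmult]
    refine IsIntegral.sum _ fun j _ => IsIntegral.mul ?_ ?_
    · simpa using (isIntegral_algebraMap (R := ℤ) (A := ℂ) (x := (M j : ℤ)))
    · refine IsIntegral.of_pow (n := p) (NeZero.pos p) ?_
      rw [← AddChar.map_nsmul_eq_pow, nsmul_eq_mul, ZMod.natCast_self, zero_mul,
        AddChar.map_zero_eq_one]
      exact isIntegral_one
  set Lam := ∑ j, M j
  have h0 : mult S.x F (0 : ZMod p) = Lam := by
    rw [hmult]
    push_cast [Lam]
    simp
  -- the Fourier coefficient at `0`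
  have hcoef : mult S.x F (0 : ZMod p) =
      (k : ℂ) + (k : ℂ) * wsum (U : L → ℂ) a b / Nat.card (stabilizer L a) := by
    rw [show F = _ from classFunction_eq_sum (isClassFunction_along (L := L) a b), mult_sum]
    simp only [mult_smul, mu_spec]
    rw [Finset.sum_eq_add (oneChar L) U H.ne_one.symm (fun χ _ hχ => ?_)
      (fun h => absurd (Finset.mem_univ _) h) (fun h => absurd (Finset.mem_univ _) h)]
    · have e1 : wsum ((oneChar L) : L → ℂ) a b = Nat.card (stabilizer L a) := by
        obtain ⟨g₀, hg₀⟩ := exists_smul_eq L a b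
        rw [wsum]
        simp only [oneChar_apply]
        rw [← Finset.natCast_card_filter, ← Fintype.card_subtype, ← Nat.card_eq_fintype_card]
        congr 1
        exact Nat.card_congr
          { toFun := fun g => ⟨g₀⁻¹ * g, by
              rw [mem_stabilizer_iff, mul_smul, g.2, ← hg₀, inv_smul_smul]⟩
            invFun := fun g => ⟨g₀ * g, by rw [mul_smul, g.2, hg₀]⟩
            left_inv := fun g => by simp
            right_inv := fun g => by simp }
      have e2 : conj (wsum (U : L → ℂ) a b) = wsum (U : L → ℂ) a b := by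
        rw [wsum, map_sum]
        refine Finset.sum_congr rfl fun g _ => ?_
        rw [apply_ite conj, map_zero, ← conjChar_apply, H.conj_U]
      rw [classInner_along a b (isClassFunction_irr _), classInner_along a b (isClassFunction_irr _),
        e1, e2, map_natCast, S.mu_one, if_pos rfl, H.mu_U]
      field_simp
      push_cast
      ring
    · rcases eq_or_ne (S.c χ) 0 with hc | hc
      · have : wsum (χ : L → ℂ) a b = 0 :=
          wsum_eq_zero χ (by rw [S.c_spec, hc, Nat.cast_zero]) a b
        rw [classInner_along a b (isClassFunction_irr _), this]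
        simp
      · rw [H.mu_zero χ (S.mem_rest.2 ⟨hχ.1, hχ.2, hc⟩), Nat.cast_zero, mul_zero]
  -- `e` divides it
  have hsum : ∑ i : ZMod p, mult S.x F i = 0 := by
    rw [sum_mult]
    show ∑ z, orbital L a b z ((1 : L) • z) = 0
    simp only [one_smul, orbital_diag a b hb.symm, Finset.sum_const_zero]
  choose iθ hiθ using fun θ : S.rest U => H.exists_ne_zero θ.2
  have hsplit : ∑ i ∈ Finset.univ.erase (0 : ZMod p), mult S.x F i =
      (S.e : ℂ) * ∑ θ : S.rest U, mult S.x F (iθ θ) := by
    have hcov : ∀ i ∈ Finset.univ.erase (0 : ZMod p),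
        mult S.x F i = ∑ θ : S.rest U, (S.mu θ i : ℂ) * mult S.x F i := by
      intro i hi
      rw [← Finset.sum_mul, ← Nat.cast_sum, Finset.sum_coe_sort (S.rest U) fun θ => S.mu θ i]
      have := H.cover i (Finset.ne_of_mem_erase hi)
      rw [Finset.sum_congr rfl fun θ hθ => by rw [H.c_rest hθ, one_mul]] at this
      rw [this, Nat.cast_one, one_mul]
    rw [Finset.sum_congr rfl hcov, Finset.sum_comm, Finset.mul_sum]
    refine Finset.sum_congr rfl fun θ _ => ?_
    rw [← H.sum_mu_rest h2 θ.2, ← Finset.add_sum_erase _ _ (Finset.mem_univ (0 : ZMod p)),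
      H.mu_zero θ θ.2, zero_add, Nat.cast_sum, Finset.sum_mul]
    refine Finset.sum_congr rfl fun i hi => ?_
    rcases eq_or_ne (S.mu θ i) 0 with h | h
    · rw [h, Nat.cast_zero, zero_mul, zero_mul]
    · obtain ⟨r, hr, hri⟩ :=
        H.rel_of_mem h2 θ.2 (Finset.ne_of_mem_erase hi) (hiθ θ).1 h (hiθ θ).2
      rw [← hri, mult_mul_unit S.x F (S.R_ne_zero hr) (fun m =>
        (classFunction_apply_of_isConj (isClassFunction_along a b) (S.isConj_pw_mul hr m)).symm)]
  rw [← Finset.add_sum_erase _ _ (Finset.mem_univ (0 : ZMod p)), hsplit, h0] at hsum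
  obtain ⟨l, hl⟩ := dvd_of_eq_mul_integral (a := Lam) (f := S.e)
    (IsIntegral.neg (IsIntegral.sum _ fun θ _ => hint (iθ θ)))
    (by rw [mul_neg]; exact eq_neg_of_add_eq_zero_left hsum)
  refine ⟨(Lam : ℤ) - k, ?_, l, by rw [← hl]; ring⟩
  rw [h0] at hcoef
  push_cast
  rw [hcoef]
  field_simp
  ring

theorem false_of_rank_four (h2 : (S.rest U).card = 2) (hp : p = 2 * S.e + 1) (hodd : Odd S.e)
    (long : ∀ a b : α, a ≠ b → ∃ g : L, g • a = a ∧ g • b ≠ b) : False := by
  classical
  haveI := S.trans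
  haveI := S.nonempty
  have h2' : 2 ≤ (S.rest U).card := h2.ge
  -- some orbital is not self-paired
  obtain ⟨a, b, hab⟩ : ∃ a b : α, ¬ ∃ g : L, g • a = b ∧ g • b = a := by
    by_contra hall
    push Not at hall
    obtain ⟨θ, hθ⟩ := Finset.card_pos.1 (show 0 < (S.rest U).card by omega)
    obtain ⟨-, hreal⟩ := (Cfsg.Agent.S0717.result (G := L) (Ω := α)).1
      (fun a b => by obtain ⟨g, h⟩ := hall a b; exact ⟨g, h⟩) θ θ.2 (by
        show Cfsg.classInner (permChar α) _ ≠ 0
        rw [S.c_spec]; exact Nat.cast_ne_zero.2 (S.mem_rest.1 hθ).2.2)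
    obtain ⟨i, hi, hθi⟩ := H.exists_ne_zero hθ
    have hθ' : conjChar θ = θ := Subtype.ext (funext fun g => by rw [conjChar_apply, hreal g])
    have hneg : S.mu θ (-i) ≠ 0 := by rwa [← S.mu_conjChar, hθ']
    obtain ⟨r, hr, hri⟩ := H.rel_of_mem h2' hθ (neg_ne_zero.2 hi) hi hneg hθi
    have hm : (-1 : ZMod p) ∈ S.R := by
      rw [← neg_one_mul i] at hri
      rwa [← mul_right_cancel₀ hi hri]
    have h := Finset.sum_involution (s := S.R) (f := fun _ : ZMod p => (1 : ZMod 2))
      (fun r _ => -r) (fun _ _ => by decide) (fun r hr _ h => ?_)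
      (fun r hr => by rw [← neg_one_mul r]; exact S.mul_mem_R hm hr) (fun r _ => neg_neg r)
    · rw [Finset.sum_const, nsmul_eq_mul, mul_one, ZMod.natCast_eq_zero_iff_even] at h
      exact Nat.not_even_iff_odd.2 hodd h
    · have h2r : (2 : ZMod p) * r = 0 := by linear_combination -h
      rcases mul_eq_zero.1 h2r with h' | h'
      · rw [show (2 : ZMod p) = ((2 : ℕ) : ZMod p) by norm_num, ZMod.natCast_eq_zero_iff] at h'
        have := Nat.le_of_dvd two_pos h'
        have := S.two_lt
        omega
      · exact S.R_ne_zero hr h'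
  have hba : b ≠ a := fun h => hab ⟨1, by simp [h]⟩
  set Hs := stabilizer L a with hHs
  obtain ⟨g, hg⟩ := exists_smul_eq L a b
  set b' := g⁻¹ • a with hb'
  have hb'a : b' ≠ a := fun h => hba (by
    rw [← hg, eq_comm, ← inv_smul_eq_iff]; exact h)
  have hb'b : b' ∉ orbit Hs b := by
    rintro ⟨h, hh⟩
    refine hab ⟨g * (h : L), ?_, ?_⟩
    · rw [mul_smul, show (h : L) • a = a from h.2, hg]
    · rw [mul_smul, show (h : L) • b = b' from hh, hb', smul_inv_smul]
  have hkk : Nat.card (orbit Hs b') = Nat.card (orbit Hs b) := by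
    have e : ∀ x, orbital L a b' a x = orbital L a b x a := by
      intro x
      simp only [orbital, Set.indicator_apply]
      congr 1
      refine propext ⟨?_, ?_⟩
      · rintro ⟨k, hk⟩
        refine ⟨k * g⁻¹, Prod.ext ?_ ?_⟩
        · change (k * g⁻¹) • a = x
          rw [mul_smul]; exact congrArg Prod.snd hk
        · change (k * g⁻¹) • b = a
          rw [mul_smul, ← hg, inv_smul_smul]; exact congrArg Prod.fst hk
      · rintro ⟨k, hk⟩
        refine ⟨k * g, Prod.ext ?_ ?_⟩
        · change (k * g) • a = a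
          rw [mul_smul, hg]; exact congrArg Prod.snd hk
        · change (k * g) • b' = x
          rw [mul_smul, hb', smul_inv_smul]; exact congrArg Prod.fst hk
    have h1 := orbital_row_sum (G := L) a b' a
    rw [Finset.sum_congr rfl fun x _ => e x, orbital_col_sum (G := L) a b a] at h1
    exact_mod_cast h1.symm
  have hww : wsum (U : L → ℂ) a b' = wsum (U : L → ℂ) a b := by
    rw [← wsum_smul (isClassFunction_irr U) g a b', hg, hb', smul_inv_smul,
      wsum_swap H.inv_U]
  -- the fourth suborbit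
  have hrank : Nat.card (orbitRel.Quotient Hs α) = 4 := by
    rw [hHs, ← Cfsg.Agent.S0669.result a, H.rank, h2]
  haveI := Fintype.ofFinite (orbitRel.Quotient Hs α)
  rw [Nat.card_eq_fintype_card] at hrank
  let mk : α → orbitRel.Quotient Hs α := Quotient.mk''
  have hmk : ∀ x y, mk x = mk y ↔ x ∈ orbit Hs y := fun x y => Quotient.eq''.trans orbitRel_apply
  have hfix : ∀ x, x ∈ orbit Hs a ↔ x = a := fun x =>
    ⟨fun ⟨h, hh⟩ => by rw [← hh]; exact h.2, fun h => h ▸ mem_orbit_self _⟩
  have n1 : mk b ≠ mk a := fun h => hba ((hfix b).1 ((hmk _ _).1 h))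
  have n2 : mk b' ≠ mk a := fun h => hb'a ((hfix b').1 ((hmk _ _).1 h))
  have n3 : mk b' ≠ mk b := fun h => hb'b ((hmk _ _).1 h)
  obtain ⟨qc, hqc⟩ : ∃ qc, Finset.univ \ ({mk a, mk b, mk b'} : Finset _) = {qc} := by
    refine Finset.card_eq_one.1 ?_
    rw [Finset.card_sdiff_of_subset (Finset.subset_univ _), Finset.card_univ, hrank,
      Finset.card_eq_three.2 ⟨_, _, _, n1.symm, n2.symm, n3.symm, rfl⟩]
  obtain ⟨c, rfl⟩ := Quotient.exists_rep qc
  have hcq : mk c ≠ mk a ∧ mk c ≠ mk b ∧ mk c ≠ mk b' := by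
    have := hqc ▸ Finset.mem_singleton_self (⟦c⟧ : orbitRel.Quotient Hs α)
    simpa [mk] using this
  have hca : c ≠ a := fun h => hcq.1 (by rw [h])
  have hall : ∀ q : orbitRel.Quotient Hs α, q = mk a ∨ q = mk b ∨ q = mk b' ∨ q = mk c := by
    intro q
    by_cases h : q ∈ ({mk a, mk b, mk b'} : Finset _)
    · simp only [Finset.mem_insert, Finset.mem_singleton] at h; tauto
    · have : q ∈ Finset.univ \ ({mk a, mk b, mk b'} : Finset _) := by simpa using h
      rw [hqc, Finset.mem_singleton] at this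
      exact Or.inr (Or.inr (Or.inr this))
  have hsum : ∀ f : α → ℂ, (∀ h ∈ Hs, ∀ y, f (h • y) = f y) → ∑ y, f y = f a +
      Nat.card (orbit Hs b) * f b + Nat.card (orbit Hs b) * f b' + Nat.card (orbit Hs c) * f c := by
    intro f hf
    have hfib : ∀ d : α, ∑ y ∈ Finset.univ.filter (fun y => mk y = mk d), f y =
        Nat.card (orbit Hs d) * f d := by
      intro d
      rw [Finset.sum_congr rfl fun y hy => (show f y = f d by
        obtain ⟨h, hh⟩ := (hmk y d).1 (Finset.mem_filter.1 hy).2
        rw [← hh]; exact hf h h.2 d), Finset.sum_const, nsmul_eq_mul, Nat.card_eq_fintype_card,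
        ← Fintype.card_subtype]
      congr 2
      exact Fintype.card_congr (Equiv.subtypeEquivRight fun y => hmk y d)
    rw [← Finset.sum_fiberwise Finset.univ mk f]
    have huniv : (Finset.univ : Finset (orbitRel.Quotient Hs α)) =
        {mk a, mk b, mk b', mk c} := (Finset.eq_univ_of_forall fun q => by
      simpa using hall q).symm
    rw [huniv, Finset.sum_insert (by simp [n1.symm, n2.symm, hcq.1.symm]),
      Finset.sum_insert (by simp [n3.symm, hcq.2.1.symm]),
      Finset.sum_insert (by simp [hcq.2.2.symm]), Finset.sum_singleton, hfib, hfib, hfib, hfib,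
      card_orbit_self, hkk]
    push_cast
    ring
  -- the three equations
  set w : α → ℂ := fun y => wsum (U : L → ℂ) a y with hw
  have hwinv : ∀ h ∈ Hs, ∀ y, w (h • y) = w y := fun h hh y => by
    simp only [hw]
    conv_lhs => arg 2; rw [← show h • a = a from hh]
    exact wsum_smul (isClassFunction_irr U) h a y
  set nH : ℂ := (Nat.card Hs : ℂ)
  have hH : nH ≠ 0 := subgroup_card_ne_zero _
  have hwa : w a = nH := by
    have h := classInner_along (L := L) a a (isClassFunction_irr U)
    rw [along_self_eq, S.c_spec, H.c_U, card_orbit_self, Nat.cast_one, one_mul,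
      eq_div_iff hH, one_mul] at h
    have h' := congrArg conj h
    rw [Complex.conj_conj, map_natCast] at h'
    exact h'.symm
  obtain ⟨A, hA, l, hl⟩ := H.exists_A h2' hba
  obtain ⟨A₃, hA₃, l₃, hl₃⟩ := H.exists_A h2' hca
  set k := Nat.card (orbit Hs b)
  set k₃ := Nat.card (orbit Hs c)
  have hk : ∀ d, d ≠ a → 2 ≤ Nat.card (orbit Hs d) := by
    intro d hd
    obtain ⟨h, hha, hhd⟩ := long a d hd.symm
    have : Nontrivial (orbit Hs d) :=
      ⟨⟨d, mem_orbit_self d⟩, ⟨h • d, ⟨h, hha⟩, rfl⟩, fun e =>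
        hhd (congrArg Subtype.val e).symm⟩
    exact Finite.one_lt_card
  have E1 : (1 : ℕ) + k + k + k₃ = 2 * p := by
    have h := hsum (fun _ => 1) fun _ _ _ => rfl
    rw [Finset.sum_const, Finset.card_univ, nsmul_eq_mul, S.card] at h
    simp only [mul_one] at h
    exact_mod_cast h.symm
  have E2 : (1 : ℤ) + A + A + A₃ = 0 := by
    have h := hsum w hwinv
    have h0 : ∑ y, w y = 0 := by
      simp only [hw, wsum]
      rw [Finset.sum_comm]
      simp only [Finset.sum_ite_eq, Finset.mem_univ, if_true]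
      have h1 := classInner_irr_of_ne H.ne_one
      rw [Cfsg.classInner, mul_eq_zero] at h1
      simpa [oneChar_apply] using h1.resolve_left (inv_ne_zero natCard_ne_zero)
    have ew : w b' = w b := hww
    rw [h0, ew, hwa, show (k : ℂ) * w b = A * nH from hA,
      show (k₃ : ℂ) * w c = A₃ * nH from hA₃] at h
    have : (((1 : ℤ) + A + A + A₃ : ℤ) : ℂ) * nH = 0 := by push_cast; linear_combination -h
    exact_mod_cast (mul_eq_zero.1 this).resolve_right hH
  have E3 : 2 * A ^ 2 * (k₃ : ℤ) + A₃ ^ 2 * k = k * k₃ := by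
    have h := hsum (fun y => w y * w y) fun h hh y => by rw [hwinv h hh y]
    have h0 : ∑ y, w y * w y = 2 * nH * nH := by
      have := sum_wsum_mul U a a
      rw [H.deg_U] at this
      have hL : Nat.card L = Fintype.card α * Nat.card Hs := by
        rw [← Nat.card_eq_fintype_card, hHs, ← index_stabilizer_of_transitive L a,
          Subgroup.index_mul_card]
      rw [hL, S.card] at this
      simp only [hw]
      rw [Finset.sum_congr rfl fun y _ => by
        nth_rw 2 [wsum_swap H.inv_U a y], this, show wsum (U : L → ℂ) a a = nH from hwa]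
      push_cast
      field_simp [NeZero.ne p]
      ring
    have ew : w b' = w b := hww
    simp only [h0, ew, hwa] at h
    have : ((2 * A ^ 2 * (k₃ : ℤ) + A₃ ^ 2 * k : ℤ) : ℂ) * (nH * nH) =
        ((k * k₃ : ℤ) : ℂ) * (nH * nH) := by
      have e1 : (k : ℂ) * w b = A * nH := hA
      have e2 : (k₃ : ℂ) * w c = A₃ * nH := hA₃
      push_cast
      linear_combination (-(k : ℂ) * k₃) * h -
        2 * (k₃ : ℂ) * (A * nH + k * w b) * e1 - (k : ℂ) * (A₃ * nH + k₃ * w c) * e2
    exact_mod_cast mul_right_cancel₀ (mul_ne_zero hH hH) this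
  have hk1 : (2 : ℤ) ≤ k := by exact_mod_cast hk b hba
  have hk3 : (2 : ℤ) ≤ k₃ := by exact_mod_cast hk c hca
  have hlpos : 1 ≤ l := by
    by_contra h
    obtain rfl : l = 0 := by omega
    push_cast at hl
    obtain rfl : A = -(k : ℤ) := by linarith
    nlinarith [sq_nonneg A₃, mul_le_mul_of_nonneg_right hk1 (by positivity : (0 : ℤ) ≤ k * k₃)]
  have hl3pos : 1 ≤ l₃ := by
    by_contra h
    obtain rfl : l₃ = 0 := by omega
    push_cast at hl₃
    obtain rfl : A₃ = -(k₃ : ℤ) := by linarith
    nlinarith [mul_nonneg (sq_nonneg A) (by positivity : (0 : ℤ) ≤ k₃),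
      mul_le_mul_of_nonneg_right hk3 (by positivity : (0 : ℤ) ≤ k * k₃)]
  have he0 : 0 < (S.e : ℤ) := by exact_mod_cast hodd.pos
  have hl4 : 2 * l + l₃ = 4 := by
    have : (S.e : ℤ) * (2 * l + l₃) = S.e * 4 := by
      have hp' : (p : ℤ) = 2 * S.e + 1 := by exact_mod_cast hp
      have E1' : (1 : ℤ) + k + k + k₃ = 2 * p := by exact_mod_cast E1
      push_cast at hl hl₃
      linarith
    exact_mod_cast mul_left_cancel₀ he0.ne' this
  obtain ⟨rfl, rfl⟩ : l = 1 ∧ l₃ = 2 := by omega
  push_cast at hl hl₃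
  have hA3' : A₃ = -1 - 2 * A := by linarith
  have hk' : (k : ℤ) = S.e - A := by linarith
  have hk3' : (k₃ : ℤ) = 2 * S.e + 1 + 2 * A := by linarith
  rw [hA3', hk', hk3'] at E3
  have h2e : 2 * ((S.e : ℤ) * (4 * A ^ 2 + 2 * A)) = 2 * (S.e * S.e) := by linear_combination E3
  have : (S.e : ℤ) * (4 * A ^ 2 + 2 * A) = S.e * S.e := by linarith
  have heq := mul_left_cancel₀ he0.ne' this
  obtain ⟨q, hq⟩ := hodd
  have : (S.e : ℤ) = 2 * q + 1 := by exact_mod_cast hq
  have h2d : (2 : ℤ) ∣ 2 * q + 1 := ⟨2 * A ^ 2 + A, by rw [← this, ← heq]; ring⟩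
  omega

end Split

end Setup

end Cfsg.Agent.Lib.Wielandt2p
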