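import Cfsg.Agent.Lib.Wielandt2p.RankFour
import Cfsg.Agent.S0713

/-!
# Primitive groups of degree `2p`: the subgroup generated by the elements of order `p`

If no element of order `p` fixes a point, the subgroup generated by them satisfies the hypotheses
of `Setup`, and a point stabiliser in it fixes only one point.
-/

set_option autoImplicit false
set_option linter.style.haveILetI false

namespace Cfsg.Agent.Lib.Wielandt2p

open MulAction
open scoped commutatorElement

variable {α : Type*} [Fintype α] [DecidableEq α]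

/-- Elements of order `p` with fixed points give the alternating group. -/
theorem two_transitive_of_fixed {p : ℕ} (hp : p.Prime) (hp3 : 3 ≤ p)
    (hα : Fintype.card α = 2 * p) (G : Subgroup (Equiv.Perm α)) (hG : IsPreprimitive G α)
    (g : G) (hgp : g ^ p = 1) (hg1 : g ≠ 1) (a : α) (ha : g • a = a) :
    IsMultiplyPretransitive G α 2 := by
  classical
  haveI := Fact.mk hp
  have hpow : (g : Equiv.Perm α) ^ p = 1 := congrArg Subtype.val hgp
  have hord : orderOf (g : Equiv.Perm α) = p :=
    orderOf_eq_prime hpow fun h => hg1 (Subtype.ext h)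
  have hlt : (g : Equiv.Perm α).support.card < 2 * p := by
    rw [← hα]
    refine Finset.card_lt_univ_of_notMem (x := a) ?_
    rw [Equiv.Perm.mem_support, not_not]
    exact ha
  have hcyc : (g : Equiv.Perm α).IsCycle :=
    Equiv.Perm.isCycle_of_prime_order (by rw [hord]; exact hp) (by rw [hord]; exact hlt)
  have hle := Cfsg.Agent.S0713.result G hG hp (by omega) (by omega) hcyc
    (by rw [← hcyc.orderOf, hord]) g.2
  haveI := alternatingGroup.isMultiplyPretransitive α
  haveI : IsMultiplyPretransitive (alternatingGroup α) α 2 :=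
    isMultiplyPretransitive_of_le (n := Nat.card α - 2)
      (by rw [Nat.card_eq_fintype_card, hα]; omega) (Nat.sub_le _ _)
  refine ⟨fun x y => ?_⟩
  obtain ⟨h, hh⟩ := exists_smul_eq (alternatingGroup α) x y
  exact ⟨⟨h, hle h.2⟩, hh⟩

variable {p : ℕ} {G : Subgroup (Equiv.Perm α)}

/-- The subgroup generated by the elements of order dividing `p`. -/
def pGen (p : ℕ) (G : Subgroup (Equiv.Perm α)) : Subgroup G := Subgroup.closure {g : G | g ^ p = 1}

instance pGen_normal : (pGen p G).Normal := by
  refine ⟨fun n hn c => ?_⟩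
  have h : (pGen p G).map (MulAut.conj c).toMonoidHom ≤ pGen p G := by
    rw [pGen, MonoidHom.map_closure]
    refine Subgroup.closure_mono ?_
    rintro _ ⟨g, hg, rfl⟩
    show (c * g * c⁻¹) ^ p = 1
    rw [conj_pow, show g ^ p = 1 from hg, mul_one, mul_inv_cancel]
  exact h ⟨n, hn, rfl⟩

theorem sign_pGen (hodd : Odd p) (g : pGen p G) :
    Equiv.Perm.sign ((g : G) : Equiv.Perm α) = 1 := by
  have h : pGen p G ≤ (Equiv.Perm.sign.comp G.subtype).ker := by
    rw [pGen, Subgroup.closure_le]
    intro x hx
    rw [SetLike.mem_coe, MonoidHom.mem_ker]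
    have h1 : (Equiv.Perm.sign.comp G.subtype x) ^ p = 1 := by
      rw [← map_pow, show x ^ p = 1 from hx, map_one]
    rcases Int.units_eq_one_or (Equiv.Perm.sign.comp G.subtype x) with h | h
    · exact h
    · rw [h, hodd.neg_one_pow] at h1
      exact absurd h1 (by decide)
  exact MonoidHom.mem_ker.1 (h g.2)

variable [Fact p.Prime] (hp3 : 3 ≤ p) (hα : Fintype.card α = 2 * p) (hG : IsPreprimitive G α)
  (hfree : ∀ g : G, g ^ p = 1 → g ≠ 1 → ∀ a : α, g • a ≠ a)
include hp3 hα hG hfree

theorem exists_setup (x : G) (hx : orderOf x = p) :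
    ∃ S : Setup p (pGen p G) α, (S.x : G) = x ∧
      ∀ a b : α, a ≠ b → ∃ g : pGen p G, g • a = a ∧ g • b ≠ b := by
  classical
  have hp : p.Prime := Fact.out
  have hodd : Odd p := hp.odd_of_ne_two (by omega)
  have hxp : x ^ p = 1 := by rw [← hx]; exact pow_orderOf_eq_one x
  haveI := hG.toIsPretransitive
  set L := pGen p G with hL
  have hxL : x ∈ L := Subgroup.subset_closure hxp
  set xL : L := ⟨x, hxL⟩
  have hxLo : orderOf xL = p := by rw [Subgroup.orderOf_mk, hx]
  have hfreek : ∀ k : ℕ, ¬ p ∣ k → ∀ a : α, x ^ k • a ≠ a := by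
    intro k hk a
    refine hfree _ (by rw [← pow_mul, mul_comm, pow_mul, hxp, one_pow]) (fun h => hk ?_) a
    rw [← hx]
    exact orderOf_dvd_of_pow_eq_one h
  obtain ⟨a₀⟩ : Nonempty α := Fintype.card_pos_iff.1 (by omega)
  have hfaith : ∀ g : G, (∀ y : α, g • y = y) → g = 1 := fun g hg =>
    Subtype.ext (Equiv.ext hg)
  have hx1 : x ≠ 1 := fun h => hp.ne_one (by rw [← hx, h, orderOf_one])
  -- transitive normal subgroups
  have htrans : ∀ K : Subgroup G, K.Normal → K ≠ ⊥ → IsPretransitive K α := by
    intro K hK hne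
    haveI := hK
    haveI := hG
    refine IsQuasiPreprimitive.isPretransitive_of_normal fun h => hne ?_
    refine (Subgroup.eq_bot_iff_forall K).2 fun g hg => hfaith g fun y => ?_
    have : y ∈ fixedPoints K α := h ▸ Set.mem_univ y
    exact this ⟨g, hg⟩
  have hdvd : ∀ K : Subgroup G, IsPretransitive K α → 2 * p ∣ Nat.card K := by
    intro K hK
    rw [← hα, ← Nat.card_eq_fintype_card, ← index_stabilizer_of_transitive K a₀]
    exact Subgroup.index_dvd_card _
  haveI hLt : IsPretransitive L α :=
    htrans L inferInstance fun h => hx1 (Subgroup.mem_bot.1 (h ▸ hxL))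
  -- `p ^ 2` does not divide the order
  have hp2 : ¬ p ^ 2 ∣ Nat.card G := by
    intro h
    obtain ⟨Q, hQ⟩ := Sylow.exists_subgroup_card_pow_prime p h
    obtain ⟨g, hg1⟩ : ∃ g : stabilizer Q a₀, g ≠ 1 := by
      by_contra hall
      push Not at hall
      have h1 : Nat.card (orbit Q a₀) ≤ 2 * p := by
        rw [← hα, ← Nat.card_eq_fintype_card]
        exact Nat.card_le_card_of_injective _ Subtype.val_injective
      have h2 : Nat.card (stabilizer Q a₀) = 1 := by
        rw [Nat.card_eq_one_iff_unique]
        exact ⟨⟨fun u v => (hall u).trans (hall v).symm⟩, ⟨1⟩⟩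
      have h3 := (stabilizer Q a₀).card_mul_index
      rw [h2, index_stabilizer, one_mul, hQ, ← Nat.card_coe_set_eq] at h3
      nlinarith
    have hdv : p ∣ Nat.card (stabilizer Q a₀) := by
      have h1 : Nat.card (stabilizer Q a₀) ∣ p ^ 2 := hQ ▸ Subgroup.card_subgroup_dvd_card _
      obtain ⟨i, -, hi⟩ := (Nat.dvd_prime_pow hp).1 h1
      rcases i with _ | i
      · rw [pow_zero, Nat.card_eq_one_iff_unique] at hi
        exact absurd (hi.1.elim g 1) hg1
      · rw [hi]; exact dvd_pow_self p i.succ_ne_zero
    obtain ⟨u, hu⟩ := exists_prime_orderOf_dvd_card' p hdv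
    refine hfree ((u : Q) : G) ?_ ?_ a₀ u.2
    · rw [← Subgroup.coe_pow, ← Subgroup.coe_pow, ← hu, pow_orderOf_eq_one]; rfl
    · intro h
      have : u = 1 := Subtype.ext (Subtype.ext h)
      rw [this, orderOf_one] at hu
      exact hp.ne_one hu.symm
  have hgen : ∀ K : Subgroup L, K.Normal → p ∣ Nat.card K → K = ⊤ := by
    intro K hK hpK
    haveI := hK
    have hcop : K.index.Coprime p := by
      refine ((Nat.Prime.coprime_iff_not_dvd hp).2 fun hdi => hp2 ?_).symm
      have h1 : p * p ∣ Nat.card K * K.index := Nat.mul_dvd_mul hpK hdi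
      rw [K.card_mul_index] at h1
      rw [sq]
      exact h1.trans (Subgroup.card_subgroup_dvd_card L)
    have hle : L ≤ K.map L.subtype := by
      conv_lhs => rw [hL, pGen]
      rw [Subgroup.closure_le]
      intro g hg
      refine ⟨⟨g, Subgroup.subset_closure hg⟩, ?_, rfl⟩
      set g' : L := ⟨g, Subgroup.subset_closure hg⟩
      refine (QuotientGroup.eq_one_iff g').1 (orderOf_eq_one_iff.1 ?_)
      refine Nat.eq_one_of_dvd_coprimes hcop (orderOf_dvd_natCard _) ?_
      refine orderOf_dvd_of_pow_eq_one ?_
      rw [← QuotientGroup.mk_pow, show g' ^ p = 1 from Subtype.ext hg, QuotientGroup.mk_one]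
    rw [eq_top_iff]
    intro g _
    obtain ⟨g', hg', he⟩ := hle g.2
    rwa [show g = g' from Subtype.ext he.symm]
  -- the centraliser of `x`
  have hsemi : ∀ c : G, Commute c x → ∀ a : α, c • a = a → c = 1 := by
    intro c hc a ha
    let f : α → ZMod p → α := fun y k => pw x k • y
    have hinj : ∀ y, Function.Injective (f y) := by
      intro y k k' h
      by_contra hne
      have h' : pw x k' • (pw x (k - k') • y) = pw x k' • y := by
        rw [← mul_smul, ← pw_add hxp, add_sub_cancel]; exact h
      refine hfreek (k - k').val (fun hd => hne ?_) y (MulAction.injective _ h')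
      exact sub_eq_zero.1 ((ZMod.val_eq_zero _).1
        (Nat.eq_zero_of_dvd_of_lt hd (k - k').val_lt))
    have hfixA : ∀ y : α, c • y = y → ∀ k, c • f y k = f y k := by
      intro y hy k
      simp only [f, pw]
      rw [← mul_smul, (hc.pow_right _).eq, mul_smul, hy]
    obtain ⟨z, hz⟩ : ∃ z, z ∉ Finset.univ.image (f a) := by
      by_contra hall
      push Not at hall
      have := Finset.card_le_card (fun y (_ : y ∈ (Finset.univ : Finset α)) => hall y)
      rw [Finset.card_image_of_injective _ (hinj a)] at this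
      simp [ZMod.card, hα] at this
      omega
    have hcover : ∀ y, y ∈ Finset.univ.image (f a) ∨ y ∈ Finset.univ.image (f z) := by
      have hdis : Disjoint (Finset.univ.image (f a)) (Finset.univ.image (f z)) := by
        rw [Finset.disjoint_left]
        intro y h1 h2
        obtain ⟨k, -, rfl⟩ := Finset.mem_image.1 h1
        obtain ⟨k', -, hk'⟩ := Finset.mem_image.1 h2
        refine hz (Finset.mem_image.2 ⟨-k' + k, Finset.mem_univ _, ?_⟩)
        simp only [f] at hk' ⊢
        rw [pw_add hxp, mul_smul, ← hk', ← mul_smul, ← pw_add hxp, neg_add_cancel, pw_zero,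
          one_smul]
      intro y
      have hu : Finset.univ.image (f a) ∪ Finset.univ.image (f z) = Finset.univ := by
        refine Finset.eq_univ_of_card _ ?_
        rw [Finset.card_union_of_disjoint hdis, Finset.card_image_of_injective _ (hinj a),
          Finset.card_image_of_injective _ (hinj z), Finset.card_univ, ZMod.card, hα, two_mul]
      exact Finset.mem_union.1 (hu ▸ Finset.mem_univ y)
    obtain ⟨i, hi⟩ : ∃ i : ZMod p, c • z = f z i := by
      rcases hcover (c • z) with h | h
      · obtain ⟨k, -, hk⟩ := Finset.mem_image.1 h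
        refine absurd (Finset.mem_image.2 ⟨k, Finset.mem_univ _, ?_⟩) hz
        exact MulAction.injective c ((hfixA a ha k).trans hk)
      · obtain ⟨k, -, hk⟩ := Finset.mem_image.1 h
        exact ⟨k, hk.symm⟩
    have hpowfix : ∀ y : α, c • y = y → c ^ p • y = y := fun y hy => by
      have : c ∈ stabilizer G y := hy
      exact pow_mem this p
    have hz' : ∀ n : ℕ, c ^ n • z = pw x i ^ n • z := by
      intro n
      induction n with
      | zero => simp
      | succ n ih =>
        rw [pow_succ', mul_smul, ih, ← mul_smul,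
          (show Commute c (pw x i ^ n) from (hc.pow_right i.val).pow_right n).eq, mul_smul, hi, ← mul_smul,
          ← pow_succ]
    have hcp : c ^ p = 1 := by
      refine hfaith _ fun y => ?_
      rcases hcover y with h | h
      · obtain ⟨k, -, rfl⟩ := Finset.mem_image.1 h
        exact hpowfix _ (hfixA a ha k)
      · obtain ⟨k, -, rfl⟩ := Finset.mem_image.1 h
        simp only [f]
        rw [← mul_smul, (show Commute (c ^ p) (pw x k) from (hc.pow_left p).pow_right k.val).eq, mul_smul,
          hz',
          show pw x i ^ p = 1 by rw [pw, ← pow_mul, mul_comm, pow_mul, hxp, one_pow], one_smul]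
    by_contra hne
    exact hfree c hcp hne a ha
  have hcent : ∀ g : L, Commute g xL → g ∈ Subgroup.zpowers xL := by
    set C := Subgroup.centralizer ({xL} : Set L) with hC
    have hmemC : ∀ g : L, g ∈ C ↔ Commute g xL := fun g => Subgroup.mem_centralizer_singleton_iff
    have hle : Subgroup.zpowers xL ≤ C :=
      Subgroup.zpowers_le.2 ((hmemC xL).2 (Commute.refl _))
    have hsemiC : ∀ c : C, ∀ a : α, c • a = a → c = 1 := fun c a h =>
      Subtype.ext (Subtype.ext (hsemi ((c : L) : G)
        (congrArg Subtype.val ((hmemC _).1 c.2).eq) a h))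
    have hcard : Nat.card C ≤ 2 * p := by
      rw [← hα, ← Nat.card_eq_fintype_card]
      refine Nat.card_le_card_of_injective (fun c : C => c • a₀) fun u v h => ?_
      have := hsemiC (v⁻¹ * u) a₀ (by rw [mul_smul, inv_smul_eq_iff]; exact h)
      exact (inv_mul_eq_one.1 this).symm
    have hdv : p ∣ Nat.card C := by
      have h := Subgroup.card_dvd_of_le hle
      rwa [Nat.card_zpowers, hxLo] at h
    obtain ⟨m, hm⟩ := hdv
    have hm2 : m ≤ 2 := by
      by_contra h
      have := Nat.mul_le_mul_left p (show 3 ≤ m by omega)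
      omega
    have hm0 : m ≠ 0 := by rintro rfl; exact Nat.card_pos.ne' (hm.trans (mul_zero p))
    have hm1 : m = 1 := by
      by_contra hne
      obtain rfl : m = 2 := by omega
      haveI : Fact (Nat.Prime 2) := ⟨Nat.prime_two⟩
      obtain ⟨t, ht⟩ := exists_prime_orderOf_dvd_card' 2 (show 2 ∣ Nat.card C by
        rw [hm]; exact dvd_mul_left 2 p)
      have ht1 : t ≠ 1 := fun h => by rw [h, orderOf_one] at ht; omega
      set τ : Equiv.Perm α := (((t : L) : G) : Equiv.Perm α)
      have hτ2 : τ ^ 2 = 1 := by
        have h : t ^ 2 = 1 := ht ▸ pow_orderOf_eq_one t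
        exact congrArg (fun u : C => (((u : L) : G) : Equiv.Perm α)) h
      have hfixτ : Fintype.card (Function.fixedPoints τ) = 0 := by
        rw [Fintype.card_eq_zero_iff]
        exact ⟨fun y => ht1 (hsemiC t y.1 y.2)⟩
      have hs := Equiv.Perm.sign_of_cycleType_eq_replicate two_pos
        (Equiv.Perm.cycleType_of_pow_prime_eq_one hτ2)
      rw [if_neg (by decide), hfixτ, Nat.sub_zero, hα, Nat.mul_div_cancel_left p two_pos,
        hodd.neg_one_pow, sign_pGen hodd (t : L)] at hs
      exact absurd hs (by decide)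
    intro g hg
    have heq : Subgroup.zpowers xL = C := by
      refine Subgroup.eq_of_le_of_card_ge hle ?_
      rw [hm, hm1, mul_one, Nat.card_zpowers, hxLo]
    rw [heq]
    exact (hmemC g).2 hg
  have hzp : Subgroup.zpowers xL ≠ ⊤ := by
    intro h
    have h1 : Nat.card L = p := by rw [← Subgroup.card_top (G := L), ← h, Nat.card_zpowers, hxLo]
    have h2 := Nat.le_of_dvd Nat.card_pos (hdvd L hLt)
    omega
  have hperf : commutator L = ⊤ := by
    by_cases hbot : commutator L = ⊥
    · refine absurd (eq_top_iff.2 fun g _ => hcent g ?_) hzp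
      have : ⁅g, xL⁆ ∈ commutator L :=
        Subgroup.commutator_mem_commutator (Subgroup.mem_top g) (Subgroup.mem_top xL)
      rw [hbot, Subgroup.mem_bot] at this
      exact commutatorElement_eq_one_iff_commute.1 this
    · refine hgen _ inferInstance ?_
      rw [← Subgroup.card_map_of_injective L.subtype_injective]
      refine (dvd_mul_left p 2).trans (hdvd _ (htrans _ inferInstance fun h => hbot ?_))
      exact (Subgroup.map_eq_bot_iff_of_injective _ L.subtype_injective).1 h
  refine ⟨{
    x := xL
    two_lt := by omega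
    card := hα
    trans := hLt
    order := hxLo
    free := fun k hk a => hfreek k hk a
    cent := hcent
    gen := hgen
    perfect := hperf }, rfl, fun a b hab => ?_⟩
  by_contra hall
  push Not at hall
  have hcard : ∀ y : α, Nat.card (stabilizer L y) * Fintype.card α = Nat.card L := fun y => by
    rw [← Nat.card_eq_fintype_card, ← index_stabilizer_of_transitive L y, Subgroup.card_mul_index]
  have heq : stabilizer L a = stabilizer L b := by
    refine Subgroup.eq_of_le_of_card_ge (fun g hg => hall g hg) (le_of_eq ?_)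
    refine Nat.eq_of_mul_eq_mul_right (show 0 < Fintype.card α by omega) ?_
    rw [hcard, hcard]
  set M : Subgroup G := (stabilizer L a).map L.subtype
  have hM : ∀ k : G, k ∈ M ↔ k ∈ L ∧ k • a = a := fun k => by
    constructor
    · rintro ⟨k', hk', rfl⟩; exact ⟨k'.2, hk'⟩
    · rintro ⟨h1, h2⟩; exact ⟨⟨k, h1⟩, h2, rfl⟩
  have hMb : ∀ k : G, k ∈ M ↔ k ∈ L ∧ k • b = b := fun k => by
    rw [hM]
    refine and_congr_right fun h1 => ?_
    exact SetLike.ext_iff.1 heq ⟨k, h1⟩
  have hLn : ∀ g k : G, k ∈ L ↔ g * k * g⁻¹ ∈ L := fun g k => by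
    refine ⟨fun h => Subgroup.Normal.conj_mem inferInstance k h g, fun h => ?_⟩
    have h' := Subgroup.Normal.conj_mem (H := L) inferInstance _ h g⁻¹
    simpa [mul_assoc] using h'
  have hst : stabilizer G a ≤ Subgroup.normalizer (M : Set G) := by
    intro g hg k
    rw [SetLike.mem_coe, SetLike.mem_coe, hM, hM, ← hLn g k]
    refine and_congr_right fun _ => ?_
    rw [mul_smul, mul_smul, inv_smul_eq_iff.2 (show a = g • a from hg.symm)]
    exact ⟨fun h => by rw [h]; exact hg, fun h => MulAction.injective g (h.trans (Eq.symm hg))⟩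
  obtain ⟨g, hg⟩ := exists_smul_eq G a b
  have hgN : g ∈ Subgroup.normalizer (M : Set G) := by
    intro k
    rw [SetLike.mem_coe, SetLike.mem_coe, hM, hMb, ← hLn g k]
    refine and_congr_right fun _ => ?_
    rw [mul_smul, mul_smul, inv_smul_eq_iff.2 hg.symm]
    exact ⟨fun h => by rw [h]; exact hg, fun h => MulAction.injective g (h.trans hg.symm)⟩
  haveI : Nontrivial α := ⟨⟨a, b, hab⟩⟩
  haveI := hG
  have hNtop : Subgroup.normalizer (M : Set G) = ⊤ := by
    refine ((IsPreprimitive.isCoatom_stabilizer_of_isPreprimitive G a).2 _ (lt_of_le_of_ne hst ?_))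
    intro h
    have : g • a = a := show g ∈ stabilizer G a from h ▸ hgN
    exact hab (this.symm.trans hg)
  haveI hMn : M.Normal := Subgroup.normalizer_eq_top_iff.1 hNtop
  have hMbot : M = ⊥ := by
    refine (Subgroup.eq_bot_iff_forall M).2 fun k hk => hfaith k fun y => ?_
    obtain ⟨h, rfl⟩ := exists_smul_eq G a y
    have := ((hM _).1 (hMn.conj_mem k hk h⁻¹)).2
    rwa [inv_inv, mul_smul, mul_smul, inv_smul_eq_iff] at this
  have hLcard : Nat.card L = 2 * p := by
    rw [← hcard a, (Subgroup.map_eq_bot_iff_of_injective _ L.subtype_injective).1 hMbot,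
      Subgroup.card_bot, one_mul, hα]
  haveI := Subgroup.normal_of_index_eq_two (H := Subgroup.zpowers xL) (by
    have h := (Subgroup.zpowers xL).card_mul_index
    rw [Nat.card_zpowers, hxLo, hLcard, mul_comm 2 p] at h
    exact Nat.eq_of_mul_eq_mul_left (by omega) h)
  exact hzp (hgen _ inferInstance (by rw [Nat.card_zpowers, hxLo]))

end Cfsg.Agent.Lib.Wielandt2p
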